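import Groth.Agent.H13Grpd.OfScheme
import Mathlib.AlgebraicGeometry.Morphisms.Flat
import Mathlib.AlgebraicGeometry.Morphisms.QuasiFinite

/-!
Invariant affine neighbourhoods of finite orbits contained in affine opens.
-/

universe u

open CategoryTheory CategoryTheory.Limits AlgebraicGeometry TensorProduct Topology

namespace Groth.Agent.H13Grpd

/-- The locus of primes all of whose lifts avoid a function is a basic open. -/
theorem exists_norm_element {A B : Type u} [CommRing A] [CommRing B] [Algebra A B] [Module.Finite A B]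
    [Module.Projective A B] (g : B) : ∃ a : A, ∀ q : PrimeSpectrum A, a ∉ q.asIdeal ↔
      ∀ r : PrimeSpectrum B, PrimeSpectrum.comap (algebraMap A B) r = q → g ∉ r.asIdeal := by
  refine ⟨nrm (LinearMap.mulLeft A g), fun q => ?_⟩
  let κ := q.asIdeal.ResidueField
  have h1 := nrm_baseChange (isBC_tensor κ) (LinearMap.mulLeft A g)
    ((LinearMap.mulLeft A g).baseChange κ) fun m => rfl
  rw [← Ideal.algebraMap_residueField_eq_zero, ← h1, ← ne_eq, ← isUnit_iff_ne_zero, isUnit_nrm_iff,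
    show ⇑((LinearMap.mulLeft A g).baseChange κ) = fun x : q.asIdeal.Fiber B => ((1 : κ) ⊗ₜ[A] g) * x from ?_,
    ← IsUnit.isUnit_iff_mulLeft_bijective]
  · constructor
    · rintro hu r hr hf
      let P := PrimeSpectrum.preimageEquivFiber A B q ⟨r, hr⟩
      have hP : ((1 : κ) ⊗ₜ[A] g) ∈ P.asIdeal := by
        have := (PrimeSpectrum.preimageEquivFiber A B q).symm_apply_apply ⟨r, hr⟩
        have := congrArg (fun x => x.1.asIdeal) this
        simp only [PrimeSpectrum.preimageEquivFiber_symm_apply_coe, PrimeSpectrum.comap_asIdeal] at this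
        rw [← this] at hf
        exact hf
      exact P.2.ne_top (Ideal.eq_top_of_isUnit_mem _ hP hu)
    · intro h
      by_contra hu
      obtain ⟨m, hm, hmem⟩ := exists_max_ideal_of_mem_nonunits hu
      let r := (PrimeSpectrum.preimageEquivFiber A B q).symm ⟨m, hm.isPrime⟩
      exact h r.1 r.2 hmem
  · refine congrArg DFunLike.coe (LinearMap.ext fun x => ?_ : (LinearMap.mulLeft A g).baseChange κ = LinearMap.mulLeft κ _)
    induction x using TensorProduct.induction_on with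
    | zero => simp
    | tmul a m => simp
    | add x y hx hy => rw [map_add, map_add, hx, hy]

/-- The points all of whose preimages lie in a basic open form a basic open. -/
theorem exists_basicOpen_forall_fibre {R D : Scheme.{u}} [IsAffine D] [IsAffine R] (s : R ⟶ D) [IsFinite s]
    [Flat s] [LocallyOfFinitePresentation s] (g : Γ(R, ⊤)) :
    ∃ a : Γ(D, ⊤), ∀ v : D, v ∈ D.basicOpen a ↔ ∀ r : R, s r = v → r ∈ R.basicOpen g := by
  algebraize [s.appTop.hom]
  have hF : Module.Finite Γ(D, ⊤) Γ(R, ⊤) := s.finite_appTop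
  have hFl : Module.Flat Γ(D, ⊤) Γ(R, ⊤) := s.flat_appTop
  have hAFP : Algebra.FinitePresentation Γ(D, ⊤) Γ(R, ⊤) :=
    (HasRingHomProperty.iff_of_isAffine (P := @LocallyOfFinitePresentation)).1 ‹LocallyOfFinitePresentation s›
  have : Module.FinitePresentation Γ(D, ⊤) Γ(R, ⊤) :=
    Module.FinitePresentation.of_finite_of_finitePresentation _ _
  have : Module.Projective Γ(D, ⊤) Γ(R, ⊤) := Module.Flat.projective_of_finitePresentation
  obtain ⟨a, ha⟩ := exists_norm_element (A := Γ(D, ⊤)) g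
  refine ⟨a, fun v => ?_⟩
  have key : ∀ {Z : Scheme.{u}} [IsAffine Z] (z : Z) (f : Γ(Z, ⊤)),
      z ∈ Z.basicOpen f ↔ f ∉ (Z.isoSpec.hom z : PrimeSpectrum Γ(Z, ⊤)).asIdeal := by
    intro Z _ z f
    rw [← Scheme.toSpecΓ_preimage_basicOpen]
    rfl
  have nat : ∀ r : R, (D.isoSpec.hom (s r) : PrimeSpectrum Γ(D, ⊤)) =
      PrimeSpectrum.comap s.appTop.hom (R.isoSpec.hom r) := fun r => by
    rw [← Scheme.Hom.comp_apply, ← Scheme.isoSpec_hom_naturality, Scheme.Hom.comp_apply]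
    rfl
  rw [key, ha]
  constructor
  · intro h r hr
    rw [key]
    exact h _ (by rw [← hr, nat]; rfl)
  · intro h r hr
    have := h (R.isoSpec.inv r) (by
      apply D.isoSpec.hom.isOpenEmbedding.injective
      refine (nat _).trans (Eq.trans ?_ hr)
      congr 1
      rw [← Scheme.Hom.comp_apply, Iso.inv_hom_id]
      rfl)
    rw [key] at this
    convert this using 2
    rw [← Scheme.Hom.comp_apply, Iso.inv_hom_id]
    rfl

variable {S : Scheme.{u}} (G : Grpd.GroupoidScheme S)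

/-- The orbit of a point. -/
def orbit (v : G.U) : Set G.U := G.t '' (G.s ⁻¹' {v})

theorem self_mem_orbit (v : G.U) : v ∈ orbit G v := by
  refine ⟨G.e v, ?_, ?_⟩
  · show G.s (G.e v) = v
    rw [← Scheme.Hom.comp_apply, G.e_s]; rfl
  · rw [← Scheme.Hom.comp_apply, G.e_t]; rfl

theorem orbit_t_subset (r : G.R) : orbit G (G.t r) ⊆ orbit G (G.s r) := by
  rintro _ ⟨r', hr', rfl⟩
  obtain ⟨z, hz₁, hz₂⟩ := Scheme.Pullback.exists_preimage_pullback (f := G.s) (g := G.t) r' r hr'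
  refine ⟨G.c z, ?_, ?_⟩
  · show G.s (G.c z) = G.s r
    rw [← Scheme.Hom.comp_apply, c_s, Scheme.Hom.comp_apply, hz₂]
  · rw [← Scheme.Hom.comp_apply, c_t, Scheme.Hom.comp_apply, hz₁]

theorem orbit_eq (r : G.R) : orbit G (G.t r) = orbit G (G.s r) := by
  refine (orbit_t_subset G r).antisymm ?_
  have := orbit_t_subset G (G.i r)
  rwa [← Scheme.Hom.comp_apply, G.i_t, ← Scheme.Hom.comp_apply, G.i_s] at this

theorem orbit_eq_of_mem {v w : G.U} (h : w ∈ orbit G v) : orbit G w = orbit G v := by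
  obtain ⟨r, hr, rfl⟩ := h
  rw [orbit_eq]; exact congrArg (orbit G) hr

/-- A finite set in an open of an affine open lies in a basic open inside it. -/
theorem exists_basicOpen_finite {X : Scheme.{u}} {V : X.Opens} (hV : IsAffineOpen V) {E : Set X} (hE : E.Finite)
    {O : X.Opens} (hEO : E ⊆ O) (hOV : O ≤ V) :
    ∃ f : Γ(X, V), E ⊆ X.basicOpen f ∧ X.basicOpen f ≤ O := by
  classical
  let O' : Set (PrimeSpectrum Γ(X, V)) := hV.fromSpec ⁻¹' (O : Set X)
  have hO' : IsOpen O' := O.2.preimage hV.fromSpec.continuous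
  obtain ⟨I, hI⟩ := (PrimeSpectrum.isClosed_iff_zeroLocus_ideal O'ᶜ).1 hO'.isClosed_compl
  have hfin := hE.preimage (f := hV.fromSpec) hV.fromSpec.isOpenEmbedding.injective.injOn
  let P : Finset (PrimeSpectrum Γ(X, V)) := hfin.toFinset
  have hP : ∀ p : PrimeSpectrum Γ(X, V), p ∈ P ↔ hV.fromSpec p ∈ E := fun p => hfin.mem_toFinset
  obtain ⟨f, hfI, hf⟩ : ∃ f ∈ I, ∀ p ∈ P, f ∉ (p : PrimeSpectrum Γ(X, V)).asIdeal := by
    by_contra! h
    rcases P.eq_empty_or_nonempty with hP0 | ⟨a, -⟩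
    · obtain ⟨p, hp, -⟩ := h 0 I.zero_mem
      simp [hP0] at hp
    obtain ⟨p, hp, hle⟩ := (Ideal.subset_union_prime (s := P)
      (f := fun p => (p : PrimeSpectrum Γ(X, V)).asIdeal) a a (fun p _ _ _ => PrimeSpectrum.isPrime _)).1
        fun x hx => by
          obtain ⟨p, hp, hxp⟩ := h x hx
          exact Set.mem_biUnion hp hxp
    have hmem : (p : PrimeSpectrum Γ(X, V)) ∈ O'ᶜ := by rw [hI]; exact hle
    exact hmem (hEO ((hP p).1 hp))
  have hb : hV.fromSpec ⁻¹ᵁ X.basicOpen f = PrimeSpectrum.basicOpen f := hV.fromSpec_preimage_basicOpen f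
  refine ⟨f, fun v hv => ?_, fun v hv => ?_⟩
  · obtain ⟨p, rfl⟩ : v ∈ Set.range hV.fromSpec := by rw [hV.range_fromSpec]; exact hOV (hEO hv)
    exact (SetLike.ext_iff.1 hb p).2 (hf p ((hP p).2 hv))
  · obtain ⟨p, rfl⟩ : v ∈ Set.range hV.fromSpec := by rw [hV.range_fromSpec]; exact X.basicOpen_le f hv
    by_contra hn
    have hp : (p : PrimeSpectrum Γ(X, V)) ∈ PrimeSpectrum.zeroLocus (I : Set Γ(X, V)) := hI.le hn
    exact (SetLike.ext_iff.1 hb p).1 hv (hp hfI)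

variable [IsFinite G.s] [Flat G.s] [LocallyOfFinitePresentation G.s]

theorem isOpen_orbit_subset {O : Set G.U} (hO : IsOpen O) : IsOpen {v | orbit G v ⊆ O} := by
  have : {v | orbit G v ⊆ O} = (G.s '' (G.t ⁻¹' Oᶜ))ᶜ := by
    ext v
    simp only [orbit, Set.mem_setOf_eq, Set.image_subset_iff, Set.mem_compl_iff, Set.mem_image, Set.mem_preimage]
    exact ⟨fun h ⟨r, hr, hrv⟩ => hr (h hrv), fun h r hrv => by_contra fun hn => h ⟨r, hn, hrv⟩⟩
  rw [this]
  exact (G.s.isClosedMap _ (hO.isClosed_compl.preimage G.t.continuous)).isOpen_compl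

theorem exists_invariant_affine (u : G.U) {V : G.U.Opens} (hV : IsAffineOpen V)
    (huV : ∀ r : G.R, G.s r = u → G.t r ∈ V) :
    ∃ W : G.U.Opens, IsAffineOpen W ∧ u ∈ W ∧ W ≤ V ∧ G.s ⁻¹ᵁ W = G.t ⁻¹ᵁ W := by
  let W₁ : G.U.Opens := ⟨{v | orbit G v ⊆ V}, isOpen_orbit_subset G V.2⟩
  have hW₁V : W₁ ≤ V := fun v hv => hv (self_mem_orbit G v)
  have hEW : orbit G u ⊆ W₁ := fun w hw => by
    show orbit G w ⊆ V
    rw [orbit_eq_of_mem G hw]
    rintro _ ⟨r, hr, rfl⟩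
    exact huV r hr
  have hfin : (orbit G u).Finite := (G.s.finite_preimage_singleton u).image _
  obtain ⟨f, hEf, hfW⟩ := exists_basicOpen_finite hV hfin hEW hW₁V
  let D : G.U.Opens := G.U.basicOpen f
  have hD : IsAffineOpen D := hV.basicOpen f
  have hRD : IsAffineOpen (G.s ⁻¹ᵁ D) := hD.preimage G.s
  have hRV : G.s ⁻¹ᵁ D ≤ G.t ⁻¹ᵁ V := fun r hr => (hfW hr) ⟨r, rfl, rfl⟩
  have : IsAffine D.toScheme := hD
  have : IsAffine (G.s ⁻¹ᵁ D).toScheme := hRD
  let g : Γ((G.s ⁻¹ᵁ D).toScheme, ⊤) := (G.s ⁻¹ᵁ D).topIso.inv (G.t.appLE V (G.s ⁻¹ᵁ D) hRV f)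
  have hg : ∀ r : (G.s ⁻¹ᵁ D).toScheme, r ∈ (G.s ⁻¹ᵁ D).toScheme.basicOpen g ↔ G.t r.1 ∈ D := fun r => by
    refine Iff.trans ?_ (show r.1 ∈ G.R.basicOpen (G.t.app V f) ↔ G.t r.1 ∈ D by
      rw [← Scheme.preimage_basicOpen]; rfl)
    have h1 : (G.s ⁻¹ᵁ D).ι ''ᵁ (G.s ⁻¹ᵁ D).toScheme.basicOpen g = G.R.basicOpen (G.t.appLE V (G.s ⁻¹ᵁ D) hRV f) := by
      rw [Scheme.Opens.ι_image_basicOpen_topIso_inv]
    have h2 : r ∈ (G.s ⁻¹ᵁ D).toScheme.basicOpen g ↔ r.1 ∈ (G.s ⁻¹ᵁ D).ι ''ᵁ (G.s ⁻¹ᵁ D).toScheme.basicOpen g :=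
      ⟨fun h => ⟨r, h, rfl⟩, fun ⟨r', h, e⟩ => (show r' = r from Subtype.ext e) ▸ h⟩
    rw [h2, h1, Scheme.Hom.appLE, CommRingCat.comp_apply, Scheme.basicOpen_res]
    exact ⟨fun h => h.2, fun h => ⟨r.2, h⟩⟩
  obtain ⟨a, ha⟩ := exists_basicOpen_forall_fibre (G.s ∣_ D) g
  refine ⟨D.ι ''ᵁ D.toScheme.basicOpen a, ((isAffineOpen_top D.toScheme).basicOpen a).image_of_isOpenImmersion D.ι,
    ?_, fun v hv => hW₁V (hfW (D.ι_image_le _ hv)), ?_⟩
  · have huD : u ∈ D := hEf (self_mem_orbit G u)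
    refine ⟨⟨u, huD⟩, (ha _).2 fun r hr => (hg r).2 (hEf ⟨r.1, ?_, rfl⟩), rfl⟩
    have := congrArg Subtype.val hr
    rwa [morphismRestrict_base_coe] at this
  · have hmem : ∀ v, v ∈ D.ι ''ᵁ D.toScheme.basicOpen a ↔ orbit G v ⊆ (D : Set G.U) := fun v => by
      constructor
      · rintro ⟨w, hw, rfl⟩ _ ⟨r, hr, rfl⟩
        have hr' : r ∈ G.s ⁻¹ᵁ D := by
          show G.s r ∈ D
          rw [show G.s r = _ from hr]; exact w.2
        exact (hg ⟨r, hr'⟩).1 ((ha w).1 hw ⟨r, hr'⟩ (Subtype.ext ((morphismRestrict_base_coe G.s D _).trans hr)))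
      · intro h
        refine ⟨⟨v, h (self_mem_orbit G v)⟩, (ha _).2 fun r hr => (hg r).2 (h ⟨r.1, ?_, rfl⟩), rfl⟩
        have := congrArg Subtype.val hr
        rwa [morphismRestrict_base_coe] at this
    ext r
    exact (hmem (G.s r)).trans ((by rw [orbit_eq] : _ ↔ _).trans (hmem (G.t r)).symm)

end Groth.Agent.H13Grpd
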