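import Groth.Agent.H13Grpd.Restr

/-!
Quotients of finite locally free groupoid schemes whose orbits lie in affine opens.
-/

universe u

open CategoryTheory CategoryTheory.Limits AlgebraicGeometry Topology TopologicalSpace

namespace Groth.Agent.H13Grpd

variable {S : Scheme.{u}} (G : Grpd.GroupoidScheme S)

/-- An invariant affine open. -/
@[ext]
structure InvAff : Type u where
  opens : G.U.Opens
  affine : IsAffineOpen opens
  inv : G.s ⁻¹ᵁ opens = G.t ⁻¹ᵁ opens

instance : PartialOrder (InvAff G) := PartialOrder.lift InvAff.opens fun _ _ h => InvAff.ext h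

variable {G} [IsFinite G.s] [Flat G.s] [LocallyOfFinitePresentation G.s]

theorem InvAff.mem_iff (W : InvAff G) (r : G.R) : G.s r ∈ W.opens ↔ G.t r ∈ W.opens :=
  SetLike.ext_iff.1 W.inv r

/-- The affine quotient of an invariant affine open. -/
noncomputable def quotOf (W : InvAff G) : Scheme.{u} := Spec (CommRingCat.of (restr W.inv).invariants)

/-- The projection to the affine quotient. -/
noncomputable def qOf (W : InvAff G) : W.opens.toScheme ⟶ quotOf W := (restr W.inv).toQuot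

instance (W : InvAff G) : IsAffine W.opens.toScheme := W.affine
instance (W : InvAff G) : IsAffine (G.s ⁻¹ᵁ W.opens).toScheme := W.affine.preimage G.s
instance (W : InvAff G) : IsAffine (restr W.inv).U := W.affine
instance (W : InvAff G) : IsAffine (restr W.inv).R := W.affine.preimage G.s
instance (W : InvAff G) : IsAffine (quotOf W) := by unfold quotOf; infer_instance

theorem isInvMap_qOf (W : InvAff G) : IsInvMap (G.s ∣_ W.opens) (restrT W.inv) (qOf W) :=
  isInvMap_toQuot (restr W.inv)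

theorem restrT_homOfLE {W' W : InvAff G} (h : W' ≤ W) :
    restrT W'.inv ≫ G.U.homOfLE h = G.R.homOfLE (Scheme.Hom.preimage_mono G.s h) ≫ restrT W.inv := by
  rw [← cancel_mono W.opens.ι, Category.assoc, Category.assoc, Scheme.homOfLE_ι, restrT_ι, restrT_ι,
    Scheme.homOfLE_ι_assoc]

theorem qOf_orbit_mem {W' W : InvAff G} {a b : W.opens.toScheme} (e : qOf W a = qOf W b) (hb : b.1 ∈ W'.opens) :
    a.1 ∈ W'.opens := by
  obtain ⟨r, hrt, hrs⟩ := (isInvMap_qOf W).orbit a b e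
  have ht : G.t r.1 = a.1 := by
    rw [← hrt]; exact (congr(($(restrT_ι W.inv)) r)).symm
  have hs : G.s r.1 = b.1 := by rw [← hrs]; exact (morphismRestrict_base_coe G.s _ r).symm
  rw [← ht, ← W'.mem_iff, hs]
  exact hb

theorem exists_quotMap {W' W : InvAff G} (h : W' ≤ W) :
    ∃ k : quotOf W' ⟶ quotOf W, qOf W' ≫ k = G.U.homOfLE h ≫ qOf W :=
  (isInvMap_qOf W').exists_desc_top _ (by
    rw [reassoc_of% restrT_homOfLE h, (isInvMap_qOf W).w, ← morphismRestrict_homOfLE_assoc])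

/-- The map of affine quotients. -/
noncomputable def quotMap {W' W : InvAff G} (h : W' ≤ W) : quotOf W' ⟶ quotOf W := (exists_quotMap h).choose

@[reassoc]
theorem qOf_quotMap {W' W : InvAff G} (h : W' ≤ W) : qOf W' ≫ quotMap h = G.U.homOfLE h ≫ qOf W :=
  (exists_quotMap h).choose_spec

theorem isOpenImmersion_quotMap {W' W : InvAff G} (h : W' ≤ W) : IsOpenImmersion (quotMap h) := by
  let O : (quotOf W).Opens :=
    ⟨qOf W '' (W.opens.ι ⁻¹ᵁ W'.opens : W.opens.toScheme.Opens), (isInvMap_qOf W).isOpenMap _ (Opens.isOpen _)⟩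
  let P := qOf W ⁻¹ᵁ O
  have hP : ∀ z : W.opens.toScheme, z ∈ P ↔ z.1 ∈ W'.opens := fun z => by
    constructor
    · rintro ⟨b, hb, e⟩; exact qOf_orbit_mem e.symm hb
    · exact fun hz => ⟨z, hz, rfl⟩
  let e : P.toScheme ⟶ W'.opens.toScheme := IsOpenImmersion.lift W'.opens.ι (P.ι ≫ W.opens.ι) (by
    rw [Scheme.Opens.range_ι]; rintro _ ⟨z, rfl⟩; exact (hP z.1).1 z.2)
  have he : e ≫ W'.opens.ι = P.ι ≫ W.opens.ι := IsOpenImmersion.lift_fac _ _ _
  have he' : e ≫ G.U.homOfLE h = P.ι := by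
    rw [← cancel_mono W.opens.ι, Category.assoc, Scheme.homOfLE_ι, he]
  let e' : W'.opens.toScheme ⟶ P.toScheme := IsOpenImmersion.lift P.ι (G.U.homOfLE h) (by
    rw [Scheme.Opens.range_ι]; rintro _ ⟨z, rfl⟩
    exact (hP _).2 (by rw [Scheme.homOfLE_apply]; exact z.2))
  have he'ι : e' ≫ P.ι = G.U.homOfLE h := IsOpenImmersion.lift_fac _ _ _
  have hee : e' ≫ e = 𝟙 _ := by
    rw [← cancel_mono W'.opens.ι, Category.assoc, he, reassoc_of% he'ι, Scheme.homOfLE_ι, Category.id_comp]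
  let s' := G.s ∣_ W.opens
  let t' := (restrT W.inv).resLE P (s' ⁻¹ᵁ P) ((isInvMap_qOf W).preimage_preimage_eq O).le
  let m : (s' ⁻¹ᵁ P).toScheme ⟶ (G.s ⁻¹ᵁ W'.opens).toScheme :=
    IsOpenImmersion.lift (G.s ⁻¹ᵁ W'.opens).ι ((s' ⁻¹ᵁ P).ι ≫ (G.s ⁻¹ᵁ W.opens).ι) (by
      rw [Scheme.Opens.range_ι]; rintro _ ⟨z, rfl⟩
      show G.s z.1.1 ∈ W'.opens
      rw [← morphismRestrict_base_coe]
      exact (hP _).1 z.2)
  have hm : m ≫ (G.s ⁻¹ᵁ W'.opens).ι = (s' ⁻¹ᵁ P).ι ≫ (G.s ⁻¹ᵁ W.opens).ι := IsOpenImmersion.lift_fac _ _ _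
  have hmt : t' ≫ e = m ≫ restrT W'.inv := by
    rw [← cancel_mono W'.opens.ι, Category.assoc, Category.assoc, he, restrT_ι, reassoc_of% hm]
    simp only [t', Scheme.Hom.resLE_comp_ι_assoc, restrT_ι]
  have hms : s' ∣_ P ≫ e = m ≫ G.s ∣_ W'.opens := by
    rw [← cancel_mono W'.opens.ι, Category.assoc, Category.assoc, he, morphismRestrict_ι, reassoc_of% hm,
      morphismRestrict_ι_assoc, morphismRestrict_ι]
  obtain ⟨l, hl, -⟩ := (isInvMap_qOf W).existsUnique_desc (O := O) (e ≫ qOf W') (by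
    show t' ≫ _ = s' ∣_ P ≫ _
    rw [reassoc_of% hmt, (isInvMap_qOf W').w, ← reassoc_of% hms])
  let k₀ : quotOf W' ⟶ O.toScheme := IsOpenImmersion.lift O.ι (quotMap h) (by
    rw [Scheme.Opens.range_ι]; rintro _ ⟨y, rfl⟩
    obtain ⟨z, rfl⟩ := (isInvMap_qOf W').surjective y
    rw [← Scheme.Hom.comp_apply, qOf_quotMap, Scheme.Hom.comp_apply]
    exact ⟨_, by show (G.U.homOfLE h z).1 ∈ W'.opens; rw [Scheme.homOfLE_apply]; exact z.2, rfl⟩)
  have hk₀ : k₀ ≫ O.ι = quotMap h := IsOpenImmersion.lift_fac _ _ _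
  have h1 : qOf W' ≫ k₀ = e' ≫ qOf W ∣_ O := by
    rw [← cancel_mono O.ι, Category.assoc, Category.assoc, hk₀, qOf_quotMap, morphismRestrict_ι, reassoc_of% he'ι]
  have hlk : l ≫ k₀ = 𝟙 _ := (isInvMap_qOf W).hom_ext _ _ (by
    rw [← cancel_mono O.ι]
    simp only [Category.assoc, Category.id_comp]
    rw [reassoc_of% hl, hk₀, qOf_quotMap, reassoc_of% he', morphismRestrict_ι])
  have hkl : k₀ ≫ l = 𝟙 _ := (isInvMap_qOf W').hom_ext_top (by
    rw [reassoc_of% h1, hl, reassoc_of% hee, Category.comp_id])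
  have : IsIso k₀ := ⟨l, hkl, hlk⟩
  rw [← hk₀]
  infer_instance

theorem quotMap_comp {W₁ W₂ W₃ : InvAff G} (h : W₁ ≤ W₂) (h' : W₂ ≤ W₃) :
    quotMap h ≫ quotMap h' = quotMap (h.trans h') := (isInvMap_qOf W₁).hom_ext_top (by
  rw [qOf_quotMap_assoc, qOf_quotMap, qOf_quotMap, Scheme.homOfLE_homOfLE_assoc])

/-- The diagram of affine quotients. -/
noncomputable def quotFunctor (G : Grpd.GroupoidScheme S) [IsFinite G.s] [Flat G.s]
    [LocallyOfFinitePresentation G.s] : InvAff G ⥤ Scheme.{u} where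
  obj := quotOf
  map f := quotMap (leOfHom f)
  map_id W := (isInvMap_qOf W).hom_ext_top (by simp [qOf_quotMap])
  map_comp f g := (quotMap_comp _ _).symm

instance {W' W : InvAff G} (f : W' ⟶ W) : IsOpenImmersion ((quotFunctor G).map f) :=
  isOpenImmersion_quotMap (leOfHom f)

theorem exists_invAff_le (W : InvAff G) {O : G.U.Opens} (hO : G.s ⁻¹ᵁ O = G.t ⁻¹ᵁ O) {x : G.U}
    (hxW : x ∈ W.opens) (hxO : x ∈ O) : ∃ W' : InvAff G, x ∈ W'.opens ∧ W' ≤ W ∧ W'.opens ≤ O := by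
  have hfin : (orbit G x).Finite := (G.s.finite_preimage_singleton x).image _
  have horb : orbit G x ⊆ (W.opens ⊓ O : G.U.Opens) := by
    rintro _ ⟨r, hr, rfl⟩
    exact ⟨(W.mem_iff r).1 (by rw [show G.s r = x from hr]; exact hxW),
      (SetLike.ext_iff.1 hO r).1 (show G.s r ∈ O by rw [show G.s r = x from hr]; exact hxO)⟩
  obtain ⟨f, hf, hfO⟩ := exists_basicOpen_finite W.affine hfin horb inf_le_left
  obtain ⟨V, hV, hxV, hVf, hinv⟩ :=
    exists_invariant_affine G x (W.affine.basicOpen f) fun r hr => hf ⟨r, hr, rfl⟩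
  exact ⟨⟨V, hV, hinv⟩, hxV, (hVf.trans hfO).trans inf_le_left, (hVf.trans hfO).trans inf_le_right⟩

theorem qOf_quotMap_apply {W' W : InvAff G} (h : W' ≤ W) (z : W'.opens.toScheme) (w : W.opens.toScheme)
    (hzw : z.1 = w.1) : quotMap h (qOf W' z) = qOf W w := by
  rw [← Scheme.Hom.comp_apply, qOf_quotMap, Scheme.Hom.comp_apply]
  exact congrArg (qOf W) (Subtype.ext ((Scheme.homOfLE_apply _ z).trans hzw))

instance : (quotFunctor G ⋙ Scheme.forget).IsLocallyDirected := ⟨fun {W₁ W₂ W₃} f₁ f₂ x₁ x₂ e => by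
  obtain ⟨z₁, rfl⟩ := (isInvMap_qOf W₁).surjective x₁
  obtain ⟨z₂, rfl⟩ := (isInvMap_qOf W₂).surjective x₂
  have e' : quotMap (leOfHom f₁) (qOf W₁ z₁) = quotMap (leOfHom f₂) (qOf W₂ z₂) := e
  rw [qOf_quotMap_apply (leOfHom f₁) z₁ ⟨z₁.1, leOfHom f₁ z₁.2⟩ rfl,
    qOf_quotMap_apply (leOfHom f₂) z₂ ⟨z₂.1, leOfHom f₂ z₂.2⟩ rfl] at e'
  have hz : z₁.1 ∈ W₂.opens := (qOf_orbit_mem (W' := W₂) e' z₂.2 :)
  obtain ⟨W₄, hx, h₁, h₂⟩ := exists_invAff_le W₁ W₂.inv z₁.2 hz
  refine ⟨W₄, homOfLE h₁, homOfLE h₂, qOf W₄ ⟨z₁.1, hx⟩, qOf_quotMap_apply h₁ _ z₁ rfl, ?_⟩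
  apply (isOpenImmersion_quotMap (leOfHom f₂)).base_open.injective
  show quotMap (leOfHom f₂) (quotMap h₂ (qOf W₄ ⟨z₁.1, hx⟩)) = quotMap (leOfHom f₂) (qOf W₂ z₂)
  rw [qOf_quotMap_apply h₂ _ ⟨z₁.1, hz⟩ rfl, qOf_quotMap_apply (leOfHom f₂) _ ⟨z₁.1, leOfHom f₁ z₁.2⟩ rfl,
    qOf_quotMap_apply (leOfHom f₂) z₂ ⟨z₂.1, leOfHom f₂ z₂.2⟩ rfl, e']⟩

/-- Every point lies in an invariant affine open. -/
theorem exists_invAff
    (hb : ∀ x : G.U, ∃ V : G.U.Opens, IsAffineOpen V ∧ G.t.base '' (G.s.base ⁻¹' {x}) ⊆ (V : Set G.U)) (x : G.U) :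
    ∃ W : InvAff G, x ∈ W.opens := by
  obtain ⟨V, hV, hxV⟩ := hb x
  obtain ⟨W, hW, hxW, -, hinv⟩ := exists_invariant_affine G x hV fun r hr => hxV ⟨r, hr, rfl⟩
  exact ⟨⟨W, hW, hinv⟩, hxW⟩

variable (G)

/-- The quotient scheme. -/
noncomputable def Quotient : Scheme.{u} := colimit (quotFunctor G)

variable {G}

/-- The chart of the quotient. -/
noncomputable def chart (W : InvAff G) : quotOf W ⟶ Quotient G := colimit.ι (quotFunctor G) W

instance (W : InvAff G) : IsOpenImmersion (chart W) :=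
  inferInstanceAs (IsOpenImmersion (colimit.ι (quotFunctor G) W))

@[reassoc]
theorem quotMap_chart {W' W : InvAff G} (h : W' ≤ W) : quotMap h ≫ chart W = chart W' :=
  colimit.w (quotFunctor G) (homOfLE h)

variable (hb : ∀ x : G.U, ∃ V : G.U.Opens, IsAffineOpen V ∧ G.t.base '' (G.s.base ⁻¹' {x}) ⊆ (V : Set G.U))
include hb

theorem iSup_invAff : ⨆ W : InvAff G, W.opens = ⊤ :=
  top_le_iff.1 fun x _ => Opens.mem_iSup.2 (exists_invAff hb x)

theorem exists_proj : ∃ p : G.U ⟶ Quotient G, ∀ W : InvAff G, W.opens.ι ≫ p = qOf W ≫ chart W := by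
  let cov : G.U.OpenCover := G.U.openCoverOfIsOpenCover (fun W : InvAff G => W.opens) (IsOpenCover.mk (iSup_invAff hb))
  refine ⟨cov.glueMorphisms (fun W => qOf W ≫ chart W) fun (W₁ : InvAff G) (W₂ : InvAff G) => ?_,
    fun W => cov.ι_glueMorphisms _ _ W⟩
  let a := pullback.fst W₁.opens.ι W₂.opens.ι
  let b := pullback.snd W₁.opens.ι W₂.opens.ι
  let m := a ≫ W₁.opens.ι
  have hm : m = b ≫ W₂.opens.ι := pullback.condition
  show a ≫ qOf W₁ ≫ chart W₁ = b ≫ qOf W₂ ≫ chart W₂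
  have hmem : ∀ z, m z ∈ W₁.opens ∧ m z ∈ W₂.opens := fun z =>
    ⟨(a z).2, by rw [hm]; exact (b z).2⟩
  choose W₃ hx h₁ h₂ using fun z => exists_invAff_le W₁ W₂.inv (hmem z).1 (hmem z).2
  refine Scheme.Cover.hom_ext ((pullback W₁.opens.ι W₂.opens.ι).openCoverOfIsOpenCover
    (fun z => m ⁻¹ᵁ (W₃ z).opens) (IsOpenCover.mk (top_le_iff.1 fun z _ => Opens.mem_iSup.2 ⟨z, hx z⟩))) _ _ fun z => ?_
  let i := (m ⁻¹ᵁ (W₃ z).opens).ι
  let m' := m ∣_ (W₃ z).opens
  have e₁ : i ≫ a = m' ≫ G.U.homOfLE (h₁ z) := by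
    rw [← cancel_mono W₁.opens.ι, Category.assoc, Category.assoc, Scheme.homOfLE_ι, morphismRestrict_ι]
  have e₂ : i ≫ b = m' ≫ G.U.homOfLE (show (W₃ z).opens ≤ W₂.opens from h₂ z) := by
    rw [← cancel_mono W₂.opens.ι, Category.assoc, Category.assoc, Scheme.homOfLE_ι, morphismRestrict_ι]
    exact congrArg (i ≫ ·) hm.symm
  show i ≫ a ≫ qOf W₁ ≫ chart W₁ = i ≫ b ≫ qOf W₂ ≫ chart W₂
  rw [reassoc_of% e₁, reassoc_of% e₂, ← qOf_quotMap_assoc (h₁ z),
    ← qOf_quotMap_assoc (W' := W₃ z) (W := W₂) (show W₃ z ≤ W₂ from h₂ z), quotMap_chart, quotMap_chart]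

/-- The projection to the quotient. -/
noncomputable def proj : G.U ⟶ Quotient G := (exists_proj hb).choose

@[reassoc]
theorem ι_proj (W : InvAff G) : W.opens.ι ≫ proj hb = qOf W ≫ chart W := (exists_proj hb).choose_spec W

theorem proj_apply (W : InvAff G) (z : W.opens.toScheme) : proj hb z.1 = chart W (qOf W z) :=
  congr(($(ι_proj hb W)) z)

theorem t_proj : G.t ≫ proj hb = G.s ≫ proj hb := by
  refine Scheme.Cover.hom_ext (G.R.openCoverOfIsOpenCover (fun W : InvAff G => G.s ⁻¹ᵁ W.opens) ?_) _ _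
    fun (W : InvAff G) => ?_
  · refine IsOpenCover.mk (top_le_iff.1 fun r _ => ?_)
    obtain ⟨W, hW⟩ := exists_invAff hb (G.s r)
    exact Opens.mem_iSup.2 ⟨W, hW⟩
  · show (G.s ⁻¹ᵁ W.opens).ι ≫ G.t ≫ _ = (G.s ⁻¹ᵁ W.opens).ι ≫ G.s ≫ _
    rw [← restrT_ι_assoc W.inv, ← morphismRestrict_ι_assoc, ι_proj, reassoc_of% (isInvMap_qOf W).w]

theorem surjective_proj : Function.Surjective (proj hb) := fun y => by
  obtain ⟨W, v, rfl⟩ := Scheme.IsLocallyDirected.ι_jointly_surjective (quotFunctor G) y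
  obtain ⟨z, rfl⟩ := (isInvMap_qOf W).surjective v
  exact ⟨z.1, proj_apply hb W z⟩

theorem proj_eq_iff (x y : G.U) : proj hb x = proj hb y ↔ ∃ r : G.R, G.t r = x ∧ G.s r = y := by
  constructor
  · intro e
    obtain ⟨W, hx⟩ := exists_invAff hb x
    obtain ⟨W', hy⟩ := exists_invAff hb y
    rw [proj_apply hb W ⟨x, hx⟩, proj_apply hb W' ⟨y, hy⟩] at e
    obtain ⟨W'', f₁, f₂, v, e₁, e₂⟩ := (Scheme.IsLocallyDirected.ι_eq_ι_iff (quotFunctor G)).1 e
    obtain ⟨z, rfl⟩ := (isInvMap_qOf W'').surjective v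
    have key : ∀ (V : InvAff G) (h : W'' ≤ V) (w : V.opens.toScheme),
        quotMap h (qOf W'' z) = qOf V w → w.1 ∈ orbit G z.1 := fun V h w e' => by
      rw [qOf_quotMap_apply h z ⟨z.1, h z.2⟩ rfl] at e'
      obtain ⟨r, hrt, hrs⟩ := (isInvMap_qOf V).orbit w ⟨z.1, h z.2⟩ e'.symm
      refine ⟨r.1, ?_, ?_⟩
      · show G.s r.1 = z.1
        rw [← morphismRestrict_base_coe G.s V.opens r, hrs]
      · rw [← hrt]; exact (congr(($(restrT_ι V.inv)) r)).symm
    have hx' : x ∈ orbit G z.1 := key W (leOfHom f₁) ⟨x, hx⟩ e₁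
    have hy' : y ∈ orbit G z.1 := key W' (leOfHom f₂) ⟨y, hy⟩ e₂
    rw [← orbit_eq_of_mem G hy'] at hx'
    obtain ⟨r, hrs, hrt⟩ := hx'
    exact ⟨r, hrt, hrs⟩
  · rintro ⟨r, rfl, rfl⟩
    rw [← Scheme.Hom.comp_apply, t_proj, Scheme.Hom.comp_apply]

theorem proj_preimage_range (W : InvAff G) : proj hb ⁻¹ᵁ (chart W).opensRange = W.opens.ι.opensRange := by
  ext x
  simp only [Scheme.Opens.opensRange_ι, SetLike.mem_coe]
  constructor
  · rintro ⟨v, hv⟩
    obtain ⟨z, rfl⟩ := (isInvMap_qOf W).surjective v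
    obtain ⟨r, hrt, hrs⟩ := (proj_eq_iff hb x z.1).1 (hv.symm.trans (proj_apply hb W z).symm)
    rw [← hrt, ← W.mem_iff, hrs]
    exact z.2
  · intro hx
    exact ⟨qOf W ⟨x, hx⟩, (proj_apply hb W ⟨x, hx⟩).symm⟩

theorem isPullback_chart (W : InvAff G) : IsPullback (qOf W) W.opens.ι (chart W) (proj hb) :=
  IsOpenImmersion.isPullback _ _ _ _ (ι_proj hb W) (proj_preimage_range hb W)

theorem proj_of_local {P : MorphismProperty Scheme.{u}} [IsZariskiLocalAtTarget P]
    (hP : ∀ W : InvAff G, P (qOf W)) : P (proj hb) := by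
  refine IsZariskiLocalAtTarget.of_openCover (Scheme.IsLocallyDirected.openCover (quotFunctor G))
    fun (W : InvAff G) => ?_
  show P (pullback.snd (proj hb) (chart W))
  have h := (isPullback_chart hb W).flip
  rw [show pullback.snd (proj hb) (chart W) = h.isoPullback.inv ≫ qOf W from h.isoPullback_inv_snd.symm]
  exact (P.cancel_left_of_respectsIso _ _).2 (hP W)

theorem isIntegralHom_proj : IsIntegralHom (proj hb) :=
  proj_of_local hb (P := @IsIntegralHom) fun W => isIntegralHom_toQuot (restr W.inv)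

theorem isOpenMap_proj : IsOpenMap (proj hb) := fun O hO => by
  have : proj hb '' O = ⋃ W : InvAff G, chart W '' (qOf W '' (W.opens.ι ⁻¹' O)) := by
    ext y
    simp only [Set.mem_image, Set.mem_iUnion, Set.mem_preimage]
    constructor
    · rintro ⟨x, hx, rfl⟩
      obtain ⟨W, hW⟩ := exists_invAff hb x
      exact ⟨W, _, ⟨⟨x, hW⟩, hx, rfl⟩, (proj_apply hb W ⟨x, hW⟩).symm⟩
    · rintro ⟨W, _, ⟨z, hz, rfl⟩, rfl⟩
      exact ⟨z.1, hz, proj_apply hb W z⟩
  rw [this]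
  exact isOpen_iUnion fun W => (chart W).isOpenEmbedding.isOpenMap _
    ((isInvMap_qOf W).isOpenMap _ (hO.preimage W.opens.ι.continuous))

theorem nonempty_isColimit_proj : Nonempty (IsColimit (Cofork.ofπ (proj hb) (t_proj hb))) := by
  have hex : ∀ {Z : Scheme.{u}} (g : G.U ⟶ Z), G.t ≫ g = G.s ≫ g → ∀ W : InvAff G,
      ∃ k : quotOf W ⟶ Z, qOf W ≫ k = W.opens.ι ≫ g := fun g hg W =>
    (isInvMap_qOf W).exists_desc_top _ (by rw [restrT_ι_assoc, hg, morphismRestrict_ι_assoc])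
  refine ⟨Cofork.IsColimit.mk _ (fun c => colimit.desc (quotFunctor G)
    ⟨c.pt, { app := fun W => (hex c.π c.condition W).choose, naturality := ?_ }⟩) ?_ ?_⟩
  · intro W' W f
    show quotMap (leOfHom f) ≫ _ = (hex c.π c.condition W').choose ≫ 𝟙 _
    refine (isInvMap_qOf W').hom_ext_top ?_
    rw [qOf_quotMap_assoc, (hex c.π c.condition W).choose_spec, Category.comp_id,
      (hex c.π c.condition W').choose_spec, Scheme.homOfLE_ι_assoc]
  · intro c
    refine Scheme.Cover.hom_ext (G.U.openCoverOfIsOpenCover (fun W : InvAff G => W.opens)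
      (IsOpenCover.mk (iSup_invAff hb))) _ _ fun (W : InvAff G) => ?_
    show W.opens.ι ≫ proj hb ≫ _ = W.opens.ι ≫ c.π
    rw [ι_proj_assoc]
    exact (congrArg (qOf W ≫ ·) (colimit.ι_desc _ W)).trans (hex c.π c.condition W).choose_spec
  · intro c m hm
    refine colimit.hom_ext (F := quotFunctor G) fun W => ?_
    erw [colimit.ι_desc]
    refine (isInvMap_qOf W).hom_ext_top ?_
    show qOf W ≫ chart W ≫ m = qOf W ≫ (hex c.π c.condition W).choose
    rw [(hex c.π c.condition W).choose_spec, ← ι_proj_assoc hb]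
    exact congrArg (W.opens.ι ≫ ·) hm

omit hb in
theorem surjective_pair_toQuot (G : Grpd.GroupoidScheme S) [IsAffine G.U] [IsAffine G.R] [IsFinite G.s] [Flat G.s]
    [LocallyOfFinitePresentation G.s] (w : G.t ≫ G.toQuot = G.s ≫ G.toQuot) :
    Function.Surjective (pullback.lift G.t G.s w) := by
  let A := affRel G
  let σ : Γ(G.U, ⊤) ⟶ Γ(G.R, ⊤) := G.s.appTop
  let τ : Γ(G.U, ⊤) ⟶ Γ(G.R, ⊤) := G.t.appTop
  let ι : CommRingCat.of G.invariants ⟶ Γ(G.U, ⊤) := CommRingCat.ofHom G.invariants.subtype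
  let a₁ : Γ(G.U, ⊤) ⟶ (A.bc A.incl).A := A.bcA A.incl
  let a₂ : Γ(G.U, ⊤) ⟶ (A.bc A.incl).A := A.bcR A.incl
  have po : IsPushout ι ι a₁ a₂ := A.isPushout_bcA A.incl
  let m : (A.bc A.incl).A ⟶ Γ(G.R, ⊤) := po.desc τ σ A.incl_τ
  have sq : IsPullback (Spec.map a₁ ≫ G.U.isoSpec.inv) (Spec.map a₂ ≫ G.U.isoSpec.inv) G.toQuot G.toQuot := by
    refine (isPullback_SpecMap_of_isPushout _ _ _ _ po).of_iso (Iso.refl _)
      G.U.isoSpec.symm G.U.isoSpec.symm (Iso.refl _) ?_ ?_ ?_ ?_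
    · exact (Category.id_comp _).symm
    · exact (Category.id_comp _).symm
    all_goals
      rw [Iso.refl_hom, Category.comp_id, toQuot_eq]
      exact (Iso.inv_hom_id_assoc _ _).symm
  have hl : pullback.lift G.t G.s w = G.R.isoSpec.hom ≫ Spec.map m ≫ sq.isoPullback.hom := by
    apply pullback.hom_ext
    · rw [pullback.lift_fst, Category.assoc, Category.assoc, sq.isoPullback_hom_fst, ← Spec.map_comp_assoc,
        IsPushout.inl_desc, Scheme.isoSpec_inv_naturality, Iso.hom_inv_id_assoc]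
    · rw [pullback.lift_snd, Category.assoc, Category.assoc, sq.isoPullback_hom_snd, ← Spec.map_comp_assoc,
        IsPushout.inr_desc, Scheme.isoSpec_inv_naturality, Iso.hom_inv_id_assoc]
  have : Surjective (Spec.map m) := ⟨A.surjective_comap_pair⟩
  rw [hl]
  exact (inferInstance : Surjective (G.R.isoSpec.hom ≫ Spec.map m ≫ sq.isoPullback.hom)).1

theorem surjective_pair_proj : Function.Surjective (pullback.lift G.t G.s (t_proj hb)) := by
  intro z
  obtain ⟨W, hW⟩ := exists_invAff hb (pullback.fst (proj hb) (proj hb) z)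
  have hW' : pullback.snd (proj hb) (proj hb) z ∈ W.opens := by
    obtain ⟨r, hrt, hrs⟩ : ∃ r : G.R, G.t r = pullback.fst (proj hb) (proj hb) z ∧
        G.s r = pullback.snd (proj hb) (proj hb) z := (proj_eq_iff hb _ _).1
      (congr(($(pullback.condition (f := proj hb) (g := proj hb))) z))
    rw [← hrs, W.mem_iff, hrt]
    exact hW
  let μ := pullback.map (qOf W) (qOf W) (proj hb) (proj hb) W.opens.ι W.opens.ι (chart W)
    (ι_proj hb W).symm (ι_proj hb W).symm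
  obtain ⟨v, rfl⟩ : z ∈ Set.range μ := by
    rw [Scheme.Pullback.range_map, Scheme.Opens.range_ι]
    exact ⟨hW, hW'⟩
  obtain ⟨r, rfl⟩ := surjective_pair_toQuot (restr W.inv) (isInvMap_qOf W).w v
  refine ⟨r.1, ?_⟩
  have hμ : pullback.lift (restrT W.inv) (G.s ∣_ W.opens) (isInvMap_qOf W).w ≫ μ =
      (G.s ⁻¹ᵁ W.opens).ι ≫ pullback.lift G.t G.s (t_proj hb) := by
    apply pullback.hom_ext <;> simp only [μ, Category.assoc, pullback.lift_fst, pullback.lift_snd,
      pullback.lift_fst_assoc, pullback.lift_snd_assoc, restrT_ι, morphismRestrict_ι]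
  exact (congr(($hμ) r)).symm

theorem isAffine_quotient [IsAffine G.U] : IsAffine (Quotient G) := by
  let T : InvAff G := ⟨⊤, isAffineOpen_top G.U, by rw [Scheme.Hom.preimage_top, Scheme.Hom.preimage_top]⟩
  have : Surjective (chart T) := ⟨fun y => by
    obtain ⟨x, rfl⟩ := surjective_proj hb y
    exact ⟨_, (proj_apply hb T ⟨x, trivial⟩).symm⟩⟩
  have : IsIso (chart T) := by
    rw [isIso_iff_isOpenImmersion_and_epi_base]
    exact ⟨inferInstance, (TopCat.epi_iff_surjective _).2 this.1⟩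
  exact IsAffine.of_isIso (inv (chart T))

theorem exists_coequalizer :
    ∃ (Y : Scheme.{u}) (p : G.U ⟶ Y) (w : G.t ≫ p = G.s ≫ p),
      Nonempty (IsColimit (Cofork.ofπ p w)) ∧ IsIntegralHom p ∧ Surjective p ∧ IsOpenMap p.base ∧
      (∀ x y : G.U, p.base x = p.base y ↔ ∃ r : G.R, G.t.base r = x ∧ G.s.base r = y) ∧
      Function.Surjective (pullback.lift G.t G.s w).base ∧ (IsAffine G.U → IsAffine Y) :=
  ⟨Quotient G, proj hb, t_proj hb, nonempty_isColimit_proj hb, isIntegralHom_proj hb, ⟨surjective_proj hb⟩,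
    isOpenMap_proj hb, proj_eq_iff hb, surjective_pair_proj hb, fun _ => isAffine_quotient hb⟩

theorem isPullback_and_finLocFree [Mono G.j] :
    IsPullback G.t G.s (proj hb) (proj hb) ∧ IsFinite (proj hb) ∧ Flat (proj hb) ∧
      LocallyOfFinitePresentation (proj hb) := by
  have hloc := fun W : InvAff G => finLocFree_and_isPullback_toQuot (restr W.inv)
  refine ⟨?_, proj_of_local hb (P := @IsFinite) fun W => (hloc W).1.1, proj_of_local hb (P := @Flat) fun W => (hloc W).1.2.1,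
    proj_of_local hb (P := @LocallyOfFinitePresentation) fun W => (hloc W).1.2.2⟩
  let l := pullback.lift G.t G.s (t_proj hb)
  have hl : IsIso l := by
    have key : ∀ W : InvAff G, IsOpenImmersion ((G.s ⁻¹ᵁ W.opens).ι ≫ l) := fun W => by
      have sq : IsPullback (restrT W.inv) (G.s ∣_ W.opens) (qOf W) (qOf W) := (hloc W).2.2
      have : (G.s ⁻¹ᵁ W.opens).ι ≫ l = sq.isoPullback.hom ≫ pullback.map (qOf W) (qOf W) (proj hb) (proj hb)
          W.opens.ι W.opens.ι (chart W) (ι_proj hb W).symm (ι_proj hb W).symm := by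
        apply pullback.hom_ext <;> simp only [l, Category.assoc, pullback.lift_fst, pullback.lift_snd,
          pullback.lift_fst_assoc, pullback.lift_snd_assoc]
        · rw [IsPullback.isoPullback_hom_fst_assoc, restrT_ι]
        · rw [IsPullback.isoPullback_hom_snd_assoc, morphismRestrict_ι]
      rw [this]; infer_instance
    have : Mono l := ⟨fun {T} g g' e => by
      refine (cancel_mono G.j).1 ?_
      apply pullback.hom_ext <;> simp only [Grpd.GroupoidScheme.j, Category.assoc, pullback.lift_fst, pullback.lift_snd]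
      · rw [← pullback.lift_fst G.t G.s (t_proj hb)]
        exact (Category.assoc _ _ _).symm.trans ((congrArg (· ≫ _) e).trans (Category.assoc _ _ _))
      · rw [← pullback.lift_snd G.t G.s (t_proj hb)]
        exact (Category.assoc _ _ _).symm.trans ((congrArg (· ≫ _) e).trans (Category.assoc _ _ _))⟩
    have hinj : Function.Injective l := fun r r' e => by
      obtain ⟨W, hr⟩ := exists_invAff hb (G.s r)
      have hs : G.s r' = G.s r := by
        have h2 : ∀ x, pullback.snd (proj hb) (proj hb) (l x) = G.s x := fun x => by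
          rw [← Scheme.Hom.comp_apply, pullback.lift_snd]
        rw [← h2, ← h2, e]
      have hr' : r' ∈ G.s ⁻¹ᵁ W.opens := by show G.s r' ∈ W.opens; rw [hs]; exact hr
      exact congrArg Subtype.val ((key W).base_open.injective (a₁ := ⟨r, hr⟩) (a₂ := ⟨r', hr'⟩) e)
    have : IsOpenImmersion l := IsOpenImmersion.of_openCover_source l
      (G.R.openCoverOfIsOpenCover (fun W : InvAff G => G.s ⁻¹ᵁ W.opens) (IsOpenCover.mk (top_le_iff.1 fun r _ =>
        Opens.mem_iSup.2 (exists_invAff hb (G.s r))))) hinj key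
    rw [isIso_iff_isOpenImmersion_and_epi_base]
    exact ⟨this, (TopCat.epi_iff_surjective _).2 (surjective_pair_proj hb)⟩
  exact IsPullback.of_iso_pullback ⟨t_proj hb⟩ (@asIso _ _ _ _ l hl) (pullback.lift_fst _ _ _) (pullback.lift_snd _ _ _)

end Groth.Agent.H13Grpd
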