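import Groth.Agent.H13Grpd.AffLocal
import Mathlib.RingTheory.RingHom.FaithfullyFlat
import Mathlib.RingTheory.Finiteness.Descent
import Mathlib.RingTheory.Polynomial.Quotient
import Mathlib.RingTheory.Flat.Stability
import Mathlib.RingTheory.RingHom.Integral
import Mathlib.RingTheory.Localization.AtPrime.Basic

/-!
A finite locally free affine equivalence relation is the square of a finite locally free map to its
invariants.
-/

universe u

open CategoryTheory CategoryTheory.Limits TensorProduct

namespace Groth.Agent.H13Grpd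

/-- A flat local ring with infinite residue field over a prime. -/
theorem exists_infinite_residue_extension (C : CommRingCat.{u}) (p : PrimeSpectrum C) :
    ∃ (D : CommRingCat.{u}) (d : C ⟶ D) (_ : IsLocalRing D), Infinite (IsLocalRing.ResidueField D) ∧
      d.hom.Flat ∧ p ∈ Set.range (PrimeSpectrum.comap d.hom) := by
  let P : Ideal (Polynomial C) := p.asIdeal.map Polynomial.C
  have := p.2
  have hP : P.IsPrime := Ideal.isPrime_map_C_of_isPrime
  let D := Localization.AtPrime P
  refine ⟨CommRingCat.of D, CommRingCat.ofHom (algebraMap C D), inferInstanceAs (IsLocalRing D), ?_, ?_, ?_⟩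
  · refine Infinite.of_injective (fun i : ℕ => IsLocalRing.residue D (algebraMap (Polynomial C) D (Polynomial.X ^ i)))
      fun i j h => ?_
    by_contra hij
    have h' : algebraMap (Polynomial C) D (Polynomial.X ^ i - Polynomial.X ^ j) ∈ IsLocalRing.maximalIdeal D := by
      rw [map_sub, ← IsLocalRing.residue_eq_zero_iff, map_sub, sub_eq_zero]
      exact h
    rw [IsLocalization.AtPrime.to_map_mem_maximal_iff D P, Ideal.mem_map_C_iff] at h'
    have := h' i
    simp [Polynomial.coeff_X_pow, hij] at this
    exact p.2.ne_top ((Ideal.eq_top_iff_one _).2 this)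
  · have : Module.Flat C D := Module.Flat.trans C (Polynomial C) D
    exact RingHom.flat_algebraMap_iff.2 this
  · refine ⟨⟨IsLocalRing.maximalIdeal D, inferInstance⟩, PrimeSpectrum.ext ?_⟩
    change (IsLocalRing.maximalIdeal D).comap (algebraMap C D) = p.asIdeal
    rw [IsScalarTower.algebraMap_eq C (Polynomial C) D, ← Ideal.comap_comap,
      show (IsLocalRing.maximalIdeal D).comap (algebraMap (Polynomial C) D) = P from
        IsLocalization.AtPrime.under_maximalIdeal D P]
    ext a
    rw [Ideal.mem_comap, Ideal.mem_map_C_iff]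
    refine ⟨fun h => by simpa using h 0, fun h n => ?_⟩
    rcases eq_or_ne n 0 with rfl | hn
    · simpa using h
    · simp [Polynomial.coeff_C, hn]

theorem eq_zero_of_tensor {C : Type u} [CommRing C] {M : Type u} [AddCommGroup M] [Module C M] (x : M)
    (h : ∀ p : PrimeSpectrum C, ∃ (D : Type u) (_ : CommRing D) (_ : Algebra C D), Module.Flat C D ∧
      p ∈ Set.range (PrimeSpectrum.comap (algebraMap C D)) ∧ (1 : D) ⊗ₜ[C] x = 0) : x = 0 := by
  by_contra hx
  let a : Ideal C := LinearMap.ker (LinearMap.toSpanSingleton C M x)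
  have ha : a ≠ ⊤ := fun h => hx (by
    have : (1 : C) ∈ a := h ▸ trivial
    simpa [a] using this)
  obtain ⟨m, hm, ham⟩ := Ideal.exists_le_maximal a ha
  obtain ⟨D, _, _, hflat, ⟨q, hq⟩, h0⟩ := h ⟨m, hm.isPrime⟩
  let f : (C ⧸ a) →ₗ[C] M := a.liftQ (LinearMap.toSpanSingleton C M x) le_rfl
  have hf : Function.Injective f := by
    rw [← LinearMap.ker_eq_bot, Submodule.ker_liftQ_eq_bot _ _ _ le_rfl]
  have h1 : (1 : D) ⊗ₜ[C] (Submodule.Quotient.mk 1 : C ⧸ a) = 0 := by
    refine Module.Flat.lTensor_preserves_injective_linearMap f hf ?_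
    rw [map_zero, LinearMap.lTensor_tmul, Submodule.liftQ_apply]
    simpa using h0
  let I : Ideal D := a.map (algebraMap C D)
  let g : D ⊗[C] (C ⧸ a) →ₗ[C] D ⧸ I :=
    TensorProduct.lift ((LinearMap.mul C (D ⧸ I)).compl₁₂ (Ideal.Quotient.mkₐ C I).toLinearMap
      (a.liftQ (Algebra.linearMap C (D ⧸ I)) fun c hc => Ideal.Quotient.eq_zero_iff_mem.2 (Ideal.mem_map_of_mem _ hc)))
  have h2 := congrArg g h1
  rw [map_zero, TensorProduct.lift.tmul] at h2
  have h3 : (1 : D) ∈ I := by
    rw [← Ideal.Quotient.eq_zero_iff_mem, ← h2]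
    simp [Submodule.liftQ_apply]
    exact (map_one (algebraMap C (D ⧸ I))).symm
  refine q.2.ne_top ((Ideal.eq_top_iff_one _).2 (Ideal.map_le_iff_le_comap.2 (ham.trans ?_) h3))
  exact (congrArg PrimeSpectrum.asIdeal hq).ge

theorem lTensor_bijective_of_bcMap {C D X Y : CommRingCat.{u}} (d : C ⟶ D) {aX : C ⟶ X} {aY : C ⟶ Y}
    (h : X ⟶ Y) (w : aX ≫ h = aY) (hb : Function.Bijective (bcMap d h w).hom) :
    letI := aX.hom.toAlgebra; letI := aY.hom.toAlgebra; letI := d.hom.toAlgebra
    ∀ hl : X →ₗ[C] Y, (∀ x, hl x = h x) → Function.Bijective (hl.lTensor D) := by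
  intro hl hhl
  algebraize [aX.hom, aY.hom, d.hom]
  letI iX := (pushout.inr aX d).hom.toAlgebra
  letI iY := (pushout.inr aY d).hom.toAlgebra
  letI iX₁ := (pushout.inl aX d).hom.toAlgebra
  letI iY₁ := (pushout.inl aY d).hom.toAlgebra
  letI : Algebra C ↑(pushout aX d) := (aX ≫ pushout.inl aX d).hom.toAlgebra
  letI : Algebra C ↑(pushout aY d) := (aY ≫ pushout.inl aY d).hom.toAlgebra
  have : IsScalarTower C X ↑(pushout aX d) := IsScalarTower.of_algebraMap_eq fun _ => rfl
  have : IsScalarTower C Y ↑(pushout aY d) := IsScalarTower.of_algebraMap_eq fun _ => rfl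
  have : IsScalarTower C D ↑(pushout aX d) :=
    IsScalarTower.of_algebraMap_eq fun x => congr($(pushout.condition (f := aX) (g := d)) x)
  have : IsScalarTower C D ↑(pushout aY d) :=
    IsScalarTower.of_algebraMap_eq fun x => congr($(pushout.condition (f := aY) (g := d)) x)
  have hX := ((CommRingCat.isPushout_iff_isPushout (R := C) (S := D) (R' := X)
    (S' := ↑(pushout aX d))).1 (IsPushout.of_hasPushout aX d)).symm.out
  have hY := ((CommRingCat.isPushout_iff_isPushout (R := C) (S := D) (R' := Y)
    (S' := ↑(pushout aY d))).1 (IsPushout.of_hasPushout aY d)).symm.out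
  have e : ∀ z, bcMap d h w (hX.equiv z) = hY.equiv (hl.lTensor D z) := fun z => by
    induction z with
    | zero => simp only [map_zero]
    | add y z hy hz => simp only [map_add, hy, hz]
    | tmul s a =>
      rw [LinearMap.lTensor_tmul, IsBaseChange.equiv_tmul, IsBaseChange.equiv_tmul, Algebra.smul_def,
        Algebra.smul_def, map_mul, hhl]
      exact congrArg₂ (· * ·) congr($(inr_bcMap d h w) s) congr($(inl_bcMap d h w) a)
  have : ⇑(hl.lTensor D) = hY.equiv.symm ∘ (bcMap d h w).hom ∘ hX.equiv := funext fun z => by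
    rw [Function.comp_apply, Function.comp_apply]
    exact (hY.equiv.symm_apply_apply _).symm.trans (congrArg hY.equiv.symm (e z).symm)
  rw [this]
  exact hY.equiv.symm.bijective.comp (hb.comp hX.equiv.bijective)

theorem flat_tensor_of_bc {C D X : CommRingCat.{u}} (d : C ⟶ D) (hd : d.hom.Flat) (aX : C ⟶ X)
    (h : (pushout.inr aX d).hom.Flat) :
    letI := aX.hom.toAlgebra; letI := d.hom.toAlgebra
    Module.Flat C (D ⊗[C] X) := by
  algebraize [aX.hom, d.hom, (pushout.inr aX d).hom, (pushout.inl aX d).hom]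
  letI : Algebra C ↑(pushout aX d) := (aX ≫ pushout.inl aX d).hom.toAlgebra
  have : IsScalarTower C X ↑(pushout aX d) := IsScalarTower.of_algebraMap_eq fun _ => rfl
  have : IsScalarTower C D ↑(pushout aX d) :=
    IsScalarTower.of_algebraMap_eq fun x => congr($(pushout.condition (f := aX) (g := d)) x)
  have hX := ((CommRingCat.isPushout_iff_isPushout (R := C) (S := D) (R' := X)
    (S' := ↑(pushout aX d))).1 (IsPushout.of_hasPushout aX d)).symm.out
  have : Module.Flat C ↑(pushout aX d) := Module.Flat.trans C D _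
  exact Module.Flat.of_linearEquiv (hX.equiv.restrictScalars C)

theorem prop_of_isPushout_descends {P Q : ∀ {R S : Type u} [CommRing R] [CommRing S], (R →+* S) → Prop}
    (hP : RingHom.CodescendsAlong P Q) {A B A' B' : CommRingCat.{u}} {σ : A ⟶ B} {φ : A ⟶ A'}
    {f : B ⟶ B'} {σ' : A' ⟶ B'} (h : IsPushout σ φ f σ') (hQ : Q φ.hom) (hσ' : P σ'.hom) : P σ.hom := by
  algebraize [σ.hom, φ.hom, f.hom, σ'.hom, (σ ≫ f).hom]
  have : IsScalarTower A B B' := IsScalarTower.of_algebraMap_eq fun _ => rfl
  have : IsScalarTower A A' B' := IsScalarTower.of_algebraMap_eq fun x => congr($(h.w) x)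
  have hpu : Algebra.IsPushout A B A' B' := CommRingCat.isPushout_iff_isPushout.1 h
  exact hP (R := A) (S := B) (R' := A') (S' := B') hQ hσ'

namespace AffRel

variable (G : AffRel.{u})

theorem bc_square {D : CommRingCat.{u}} (d : CommRingCat.of G.invariants ⟶ D) (hd : d.hom.Flat)
    [IsLocalRing D] [Infinite (IsLocalRing.ResidueField D)] (hG : G.Gen) :
    (pushout.inr G.incl d).hom.Flat ∧
      IsPushout (pushout.inr G.incl d) (pushout.inr G.incl d) (G.bc d).τ (G.bc d).σ := by
  obtain ⟨hinj, hrange⟩ := G.invariants_bc d hd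
  let e₀ := RingEquiv.ofBijective ((pushout.inr G.incl d).hom.codRestrict (G.bc d).invariants
      fun x => (hrange _).2 ⟨x, rfl⟩)
    ⟨fun a b h => hinj (congrArg Subtype.val h), fun x => by
      obtain ⟨y, hy⟩ := (hrange x.1).1 x.2
      exact ⟨y, Subtype.ext hy⟩⟩
  have : IsLocalRing (G.bc d).invariants := e₀.isLocalRing
  have : Infinite (IsLocalRing.ResidueField (G.bc d).invariants) :=
    .of_injective (IsLocalRing.ResidueField.mapEquiv (S := (G.bc d).invariants) e₀)
      (IsLocalRing.ResidueField.mapEquiv (S := (G.bc d).invariants) e₀).injective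
  obtain ⟨n, x, hb⟩ := (G.bc d).exists_basis_of_isLocalRing (Gen.bc d hG)
  let G' := G.bc d
  obtain ⟨⟨bC, -⟩, hbij⟩ := basis_invariants G'.εσ G'.ετ G'.sq₁ G'.sq₂.w G'.cτ x hb
  letI : Algebra G'.invariants G'.A := G'.invariants.subtype.toAlgebra
  have hfl : G'.incl.hom.Flat := by
    have : Module.Free G'.invariants G'.A := Module.Free.of_basis bC
    exact RingHom.flat_algebraMap_iff.2 (inferInstanceAs (Module.Flat G'.invariants G'.A))
  have hsq : IsPushout G'.incl G'.incl G'.τ G'.σ := by
    letI := (G'.σ.hom.comp G'.invariants.subtype).toAlgebra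
    let sA : G'.A →ₐ[G'.invariants] G'.B := { G'.σ.hom with commutes' := fun _ => rfl }
    let tA : G'.A →ₐ[G'.invariants] G'.B := { G'.τ.hom with commutes' := fun c => c.2.symm }
    let Φ : G'.A ⊗[G'.invariants] G'.A →ₐ[G'.invariants] G'.B :=
      Algebra.TensorProduct.lift tA sA fun _ _ => .all _ _
    have hΦ : Function.Bijective Φ := hbij Φ.toLinearMap fun a a' =>
      Algebra.TensorProduct.lift_tmul tA sA (fun _ _ => .all _ _) a a'
    refine (CommRingCat.isPushout_tensorProduct G'.invariants G'.A G'.A).of_iso (Iso.refl _) (Iso.refl _)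
      (Iso.refl _) (AlgEquiv.ofBijective Φ hΦ).toRingEquiv.toCommRingCatIso (by simp; rfl) (by simp; rfl) ?_ ?_
    · ext a
      change Φ (a ⊗ₜ 1) = G'.τ a
      simp [Φ, tA]
    · ext a
      change Φ (1 ⊗ₜ a) = G'.σ a
      simp [Φ, sA]
  let i : D ≅ CommRingCat.of G'.invariants := e₀.toCommRingCatIso
  refine ⟨?_, ?_⟩
  · exact ((RingHom.Flat.of_bijective e₀.bijective).comp hfl : (G'.incl.hom.comp e₀.toRingHom).Flat)
  · have hi : G'.incl = i.inv ≫ (pushout.inr G.incl d : D ⟶ G'.A) := by
      refine CommRingCat.hom_ext (RingHom.ext fun c => ?_)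
      exact (congrArg Subtype.val (e₀.apply_symm_apply c)).symm
    exact hsq.of_iso i.symm (Iso.refl _) (Iso.refl _) (Iso.refl _) (by simp [hi]; rfl) (by simp [hi]; rfl)
      (by simp; rfl) (by simp; rfl)

theorem flat_incl_and_isPushout (hG : G.Gen) :
    G.incl.hom.Flat ∧ IsPushout G.incl G.incl G.τ G.σ := by
  letI : Algebra G.invariants G.A := G.incl.hom.toAlgebra
  choose D d hloc hinf hd hp using exists_infinite_residue_extension (CommRingCat.of G.invariants)
  constructor
  · refine RingHom.flat_algebraMap_iff.2 ?_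
    rw [Module.Flat.iff_lTensor_preserves_injective_linearMap]
    intro N N' _ _ _ _ f hf
    rw [injective_iff_map_eq_zero]
    intro z hz
    refine eq_zero_of_tensor (C := G.invariants) z fun p => ?_
    letI := (d p).hom.toAlgebra
    have := hinf p
    have hflat : Module.Flat G.invariants (D p ⊗[G.invariants] G.A) :=
      flat_tensor_of_bc (d p) (hd p) G.incl (G.bc_square (d p) (hd p) hG).1
    refine ⟨D p, inferInstance, inferInstance, hd p, hp p, ?_⟩
    have h1 := Module.Flat.lTensor_preserves_injective_linearMap (M := D p ⊗[G.invariants] G.A) f hf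
    rw [LinearMap.lTensor_tensor] at h1
    have h2 : Function.Injective ((f.lTensor G.A).lTensor (D p)) := by
      intro a b hab
      obtain ⟨a, rfl⟩ := (TensorProduct.assoc G.invariants (D p) G.A N).surjective a
      obtain ⟨b, rfl⟩ := (TensorProduct.assoc G.invariants (D p) G.A N).surjective b
      exact congrArg _ (h1 (by simp [hab]))
    exact h2 (by rw [LinearMap.lTensor_tmul, hz, TensorProduct.tmul_zero, map_zero])
  · let P := pushout G.incl G.incl
    let Φ : P ⟶ G.B := pushout.desc G.τ G.σ G.incl_τ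
    have hΦl : pushout.inl G.incl G.incl ≫ Φ = G.τ := pushout.inl_desc _ _ _
    have hΦr : pushout.inr G.incl G.incl ≫ Φ = G.σ := pushout.inr_desc _ _ _
    let aP : CommRingCat.of G.invariants ⟶ P := G.incl ≫ pushout.inl G.incl G.incl
    have hw : aP ≫ Φ = G.inclB := by
      simp only [aP, Φ, Category.assoc, pushout.inl_desc]; exact G.incl_τ
    have hwr : G.incl ≫ pushout.inr G.incl G.incl = aP := pushout.condition.symm
    have hbc : ∀ p, IsIso (bcMap (d p) Φ hw) := fun p => by
      have := hinf p
      have sq' : IsPushout (pushout.inr G.incl (d p)) (pushout.inr G.incl (d p))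
          (bcMap (d p) G.τ G.incl_τ) (bcMap (d p) G.σ rfl) := (G.bc_square (d p) (hd p) hG).2
      have cube : IsPushout (pushout.inr G.incl (d p)) (pushout.inr G.incl (d p))
          (bcMap (d p) (pushout.inl G.incl G.incl) rfl : _ ⟶ pushout aP (d p))
          (bcMap (d p) (pushout.inr G.incl G.incl) hwr) :=
        isPushout_cube (IsPushout.of_hasPushout G.incl G.incl) (IsPushout.of_hasPushout G.incl (d p))
          (isPushout_bcMap (d p) _ hwr) (inl_bcMap (d p) (pushout.inl G.incl G.incl) rfl).symm
          pushout.condition ((inr_bcMap _ _ _).trans (inr_bcMap _ _ _).symm)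
      have : bcMap (d p) Φ hw = (cube.isoIsPushout _ _ sq').hom := by
        apply cube.hom_ext
        · rw [IsPushout.inl_isoIsPushout_hom]
          apply pushout.hom_ext
          · simp [inl_bcMap, inl_bcMap_assoc, reassoc_of% hΦl, reassoc_of% hΦr]
          · simp [inr_bcMap, inr_bcMap_assoc]
        · rw [IsPushout.inr_isoIsPushout_hom]
          apply pushout.hom_ext
          · simp [inl_bcMap, inl_bcMap_assoc, reassoc_of% hΦl, reassoc_of% hΦr]
          · simp [inr_bcMap, inr_bcMap_assoc]
      rw [this]; infer_instance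
    letI := aP.hom.toAlgebra
    letI := G.inclB.hom.toAlgebra
    let Φl : P →ₗ[G.invariants] G.B :=
      { toFun := Φ
        map_add' := map_add Φ.hom
        map_smul' := fun c x => (map_mul Φ.hom _ _).trans (congrArg (· * Φ x) congr($hw c)) }
    have hb : Function.Bijective Φl := by
      have key : ∀ p, letI := (d p).hom.toAlgebra; Function.Bijective (Φl.lTensor (D p)) := fun p => by
        have := hbc p
        exact lTensor_bijective_of_bcMap (d p) Φ hw (ConcreteCategory.bijective_of_isIso (bcMap (d p) Φ hw))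
          Φl fun _ => rfl
      refine ⟨(injective_iff_map_eq_zero _).2 fun x hx => eq_zero_of_tensor (C := G.invariants) x fun p => ?_, fun y => ?_⟩
      · letI := (d p).hom.toAlgebra
        exact ⟨D p, inferInstance, inferInstance, hd p, hp p, (key p).1 (by simp [hx])⟩
      · have : (LinearMap.range Φl).mkQ y = 0 := eq_zero_of_tensor (C := G.invariants) _ fun p => by
          letI := (d p).hom.toAlgebra
          refine ⟨D p, inferInstance, inferInstance, hd p, hp p, ?_⟩
          obtain ⟨z, hz⟩ := (key p).2 ((1 : D p) ⊗ₜ y)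
          rw [← LinearMap.lTensor_tmul, ← hz, ← LinearMap.lTensor_comp_apply, LinearMap.range_mkQ_comp,
            LinearMap.lTensor_zero, LinearMap.zero_apply]
        exact (Submodule.Quotient.mk_eq_zero _).1 this
    have : IsIso Φ := (ConcreteCategory.isIso_iff_bijective Φ).2 hb
    exact (IsPushout.of_hasPushout G.incl G.incl).of_iso (Iso.refl _) (Iso.refl _) (Iso.refl _) (asIso Φ)
      (by simp) (by simp) (by simp [hΦl]) (by simp [hΦr])

theorem finite_incl (hG : G.Gen) :
    G.incl.hom.FaithfullyFlat ∧ G.incl.hom.Finite ∧ G.incl.hom.FinitePresentation := by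
  obtain ⟨hfl, hsq⟩ := G.flat_incl_and_isPushout hG
  have hff : G.incl.hom.FaithfullyFlat := by
    rw [RingHom.FaithfullyFlat.iff_flat_and_comap_surjective]
    exact ⟨hfl, G.isIntegral.comap_surjective G.injective_incl⟩
  have hfp : G.incl.hom.FinitePresentation :=
    prop_of_isPushout_descends RingHom.FinitePresentation.codescendsAlong_faithfullyFlat hsq hff G.fp
  exact ⟨hff, RingHom.IsIntegral.to_finite G.isIntegral (RingHom.FiniteType.of_finitePresentation hfp), hfp⟩

end AffRel

end Groth.Agent.H13Grpd
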