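import Groth.Prelude.Def_Grpd
import Groth.Agent.H13Grpd.AffMain
import Mathlib.AlgebraicGeometry.Morphisms.Finite
import Mathlib.AlgebraicGeometry.Morphisms.Flat
import Mathlib.AlgebraicGeometry.Morphisms.FinitePresentation
import Mathlib.AlgebraicGeometry.Morphisms.ClosedImmersion

/-!
The ring data of a finite locally free affine groupoid scheme.
-/

universe u

open CategoryTheory CategoryTheory.Limits AlgebraicGeometry

namespace Groth.Agent.H13Grpd

variable {S : Scheme.{u}} (G : Grpd.GroupoidScheme S)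

theorem lift_c_s {T : Scheme.{u}} (α β : T ⟶ G.R) (h : α ≫ G.s = β ≫ G.t) :
    (pullback.lift α β h ≫ G.c) ≫ G.s = β ≫ G.s := G.comp_s α β h

theorem c_s : G.c ≫ G.s = pullback.snd G.s G.t ≫ G.s := by
  have := G.comp_s (pullback.fst G.s G.t) (pullback.snd G.s G.t) pullback.condition
  rwa [show pullback.lift (pullback.fst G.s G.t) (pullback.snd G.s G.t) pullback.condition = 𝟙 _ by
    apply pullback.hom_ext <;> simp, Category.id_comp] at this

theorem c_t : G.c ≫ G.t = pullback.fst G.s G.t ≫ G.t := by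
  have := G.comp_t (pullback.fst G.s G.t) (pullback.snd G.s G.t) pullback.condition
  rwa [show pullback.lift (pullback.fst G.s G.t) (pullback.snd G.s G.t) pullback.condition = 𝟙 _ by
    apply pullback.hom_ext <;> simp, Category.id_comp] at this

theorem comp_congr {T : Scheme.{u}} {α α' β β' : T ⟶ G.R} (h : α ≫ G.s = β ≫ G.t) (h' : α' ≫ G.s = β' ≫ G.t)
    (e₁ : α = α') (e₂ : β = β') : pullback.lift α β h ≫ G.c = pullback.lift α' β' h' ≫ G.c := by
  subst e₁ e₂; rfl

/-- Composition identifies composable pairs with pairs of arrows with a common source. -/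
theorem isPullback_comp : IsPullback G.c (pullback.snd G.s G.t) G.s G.s := by
  refine ⟨⟨c_s G⟩, ⟨PullbackCone.IsLimit.mk _ (fun s => ?_) (fun s => ?_) (fun s => ?_) (fun s m h₁ h₂ => ?_)⟩⟩
  · exact pullback.lift (pullback.lift s.fst (s.snd ≫ G.i) (by rw [Category.assoc, G.i_t]; exact s.condition) ≫ G.c)
      s.snd (by rw [lift_c_s, Category.assoc, G.i_s])
  · have h₀ : (s.snd ≫ G.i) ≫ G.s = s.snd ≫ G.t := by rw [Category.assoc, G.i_s]
    have h₁ : s.fst ≫ G.s = (s.snd ≫ G.i) ≫ G.t := by rw [Category.assoc, G.i_t]; exact s.condition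
    rw [G.assoc s.fst (s.snd ≫ G.i) s.snd h₁ h₀]
    refine Eq.trans (comp_congr G _ ?_ rfl (G.i_comp s.snd)) ?_
    · rw [Category.assoc, Category.assoc, G.e_t, Category.comp_id]; exact s.condition
    · refine Eq.trans (comp_congr G _ ?_ rfl ?_) (G.comp_e s.fst)
      · rw [Category.assoc, Category.assoc, G.e_t, Category.comp_id]
      · rw [← Category.assoc, ← Category.assoc]; exact congrArg (· ≫ G.e) s.condition.symm
  · exact pullback.lift_snd _ _ _
  · apply pullback.hom_ext
    · rw [pullback.lift_fst]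
      have hm : m = pullback.lift (m ≫ pullback.fst G.s G.t) (m ≫ pullback.snd G.s G.t)
          (by rw [Category.assoc, Category.assoc, pullback.condition]) :=
        pullback.hom_ext (pullback.lift_fst _ _ _).symm (pullback.lift_snd _ _ _).symm
      have hαβ : (m ≫ pullback.fst G.s G.t) ≫ G.s = s.snd ≫ G.t := by
        rw [← h₂, Category.assoc, Category.assoc, pullback.condition]
      have hfst : s.fst = pullback.lift (m ≫ pullback.fst G.s G.t) s.snd hαβ ≫ G.c := by
        rw [← h₁]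
        conv_lhs => rw [hm]
        exact comp_congr G _ _ rfl h₂
      have h₃ : s.snd ≫ G.s = (s.snd ≫ G.i) ≫ G.t := by rw [Category.assoc, G.i_t]
      symm
      refine Eq.trans (comp_congr G _ ((G.comp_s _ _ hαβ).trans h₃) hfst rfl) ?_
      rw [G.assoc _ _ _ hαβ h₃]
      refine Eq.trans (comp_congr G _ ?_ rfl (G.comp_i s.snd)) ?_
      · rw [Category.assoc s.snd, Category.assoc G.t, G.e_t, Category.comp_id]; exact hαβ
      · refine Eq.trans (comp_congr G _ ?_ rfl ?_) (G.comp_e _)
        · rw [Category.assoc (m ≫ _), Category.assoc G.s, G.e_t, Category.comp_id]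
        · rw [← Category.assoc, ← Category.assoc (m ≫ _), hαβ]
    · rw [pullback.lift_snd]; exact h₂

variable [IsAffine G.U] [IsAffine G.R] [IsFinite G.s] [Flat G.s] [LocallyOfFinitePresentation G.s]

/-- The ring data. -/
noncomputable def affRel : AffRel.{u} where
  A := Γ(G.U, ⊤)
  B := Γ(G.R, ⊤)
  B₂ := Γ(pullback G.s G.t, ⊤)
  σ := G.s.appTop
  τ := G.t.appTop
  ε := G.e.appTop
  inv := G.i.appTop
  p₁ := (pullback.fst G.s G.t).appTop
  p₂ := (pullback.snd G.s G.t).appTop
  c := G.c.appTop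
  εσ := by rw [← Scheme.Hom.comp_appTop, G.e_s, Scheme.Hom.id_appTop]
  ετ := by rw [← Scheme.Hom.comp_appTop, G.e_t, Scheme.Hom.id_appTop]
  invσ := by rw [← Scheme.Hom.comp_appTop, G.i_s]
  invτ := by rw [← Scheme.Hom.comp_appTop, G.i_t]
  cτ := by rw [← Scheme.Hom.comp_appTop, c_t, Scheme.Hom.comp_appTop]
  sq₁ := isPushout_appTop_of_isPullback (IsPullback.of_hasPullback G.s G.t)
  sq₂ := isPushout_appTop_of_isPullback (isPullback_comp G)
  finite := G.s.finite_appTop
  flat := G.s.flat_appTop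
  fp := (HasRingHomProperty.iff_of_isAffine (P := @LocallyOfFinitePresentation)).1 inferInstance

theorem affRel_invariants : (affRel G).invariants = G.invariants := rfl

theorem affRel_gen [Mono G.j] : (affRel G).Gen := by
  let σ := G.s.appTop
  let τ := G.t.appTop
  letI : Algebra Γ(G.U, ⊤) Γ(G.R, ⊤) := σ.hom.toAlgebra
  have hF : Module.Finite Γ(G.U, ⊤) Γ(G.R, ⊤) := (affRel G).finite
  let D : Subalgebra Γ(G.U, ⊤) Γ(G.R, ⊤) := Algebra.adjoin Γ(G.U, ⊤) (Set.range τ.hom)
  let j : CommRingCat.of D ⟶ Γ(G.R, ⊤) := CommRingCat.ofHom D.val.toRingHom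
  have hjσ : CommRingCat.ofHom (algebraMap Γ(G.U, ⊤) D) ≫ j = σ := rfl
  let τD : Γ(G.U, ⊤) ⟶ CommRingCat.of D :=
    CommRingCat.ofHom (τ.hom.codRestrict D fun x => Algebra.subset_adjoin ⟨x, rfl⟩)
  have hjτ : τD ≫ j = τ := rfl
  have : IsFinite (Spec.map j) :=
    (IsFinite.SpecMap_iff j).mpr (RingHom.Finite.of_comp_finite (f := algebraMap Γ(G.U, ⊤) D) (affRel G).finite)
  have : Mono (Spec.map j) := ⟨fun {T} g h e => by
    rw [← cancel_mono G.R.isoSpec.inv, ← cancel_mono G.j]
    apply pullback.hom_ext <;> simp only [Grpd.GroupoidScheme.j, Category.assoc, pullback.lift_fst, pullback.lift_snd]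
    · rw [← Scheme.isoSpec_inv_naturality, show G.t.appTop = τD ≫ j from hjτ.symm, Spec.map_comp,
        Category.assoc, reassoc_of% e]
    · rw [← Scheme.isoSpec_inv_naturality,
        show G.s.appTop = CommRingCat.ofHom (algebraMap Γ(G.U, ⊤) D) ≫ j from hjσ.symm, Spec.map_comp,
        Category.assoc, reassoc_of% e]⟩
  have : IsClosedImmersion (Spec.map j) :=
    (IsClosedImmersion.iff_isFinite_and_mono _).2 ⟨inferInstance, inferInstance⟩
  have hj : Function.Surjective j.hom :=
    (RingHom.surjective_respectsIso.arrow_mk_iso_iff (arrowIsoΓSpecOfIsAffine j)).2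
      (IsClosedImmersion.isAffine_surjective_of_isAffine (Spec.map j)).2
  have hD : D = ⊤ := eq_top_iff.2 fun x _ => by
    obtain ⟨y, rfl⟩ := hj x
    exact y.2
  have hc : (Submonoid.closure (Set.range τ.hom) : Set Γ(G.R, ⊤)) = Set.range τ.hom := by
    refine le_antisymm ?_ Submonoid.subset_closure
    exact (Submonoid.closure_le (S := MonoidHom.mrange τ.hom.toMonoidHom)).2 fun x hx => hx
  show Submodule.span Γ(G.U, ⊤) (Set.range τ.hom) = ⊤
  rw [← hc, ← Algebra.adjoin_eq_span]
  exact congrArg Subalgebra.toSubmodule hD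

omit [IsFinite G.s] [Flat G.s] [LocallyOfFinitePresentation G.s] in
theorem toQuot_eq : G.toQuot = G.U.isoSpec.hom ≫ Spec.map (CommRingCat.ofHom G.invariants.subtype) := rfl

theorem finLocFree_and_isPullback_toQuot [Mono G.j] :
    (IsFinite G.toQuot ∧ Flat G.toQuot ∧ LocallyOfFinitePresentation G.toQuot) ∧ Surjective G.toQuot ∧
      IsPullback G.t G.s G.toQuot G.toQuot := by
  obtain ⟨hff, hfi, hfp⟩ := (affRel G).finite_incl (affRel_gen G)
  obtain ⟨-, sq⟩ := (affRel G).flat_incl_and_isPushout (affRel_gen G)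
  let ι := CommRingCat.ofHom G.invariants.subtype
  have sq' : IsPushout ι ι G.t.appTop G.s.appTop := sq
  have h1 : IsFinite (Spec.map ι) := (IsFinite.SpecMap_iff ι).2 hfi
  have h2 : Flat (Spec.map ι) := Flat.SpecMap_iff.2 hff.flat
  have h3 : LocallyOfFinitePresentation (Spec.map ι) := HasRingHomProperty.Spec_iff.2 hfp
  have h4 : Surjective (Spec.map ι) := ⟨(RingHom.FaithfullyFlat.iff_flat_and_comap_surjective.1 hff).2⟩
  rw [toQuot_eq]
  refine ⟨⟨inferInstance, inferInstance, inferInstance⟩, inferInstance, ?_⟩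
  refine (isPullback_SpecMap_of_isPushout _ _ _ _ sq').of_iso G.R.isoSpec.symm G.U.isoSpec.symm G.U.isoSpec.symm
    (Iso.refl _) ?_ ?_ ?_ ?_
  · exact (Scheme.isoSpec_inv_naturality G.t)
  · exact (Scheme.isoSpec_inv_naturality G.s)
  · rw [Iso.refl_hom, Category.comp_id]; exact (Iso.inv_hom_id_assoc _ _).symm
  · rw [Iso.refl_hom, Category.comp_id]; exact (Iso.inv_hom_id_assoc _ _).symm

end Groth.Agent.H13Grpd
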