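import Groth.Agent.H13Grpd.AffRel
import Groth.Agent.H13AlgSp.FlatEqualizer
import Mathlib.CategoryTheory.Limits.Shapes.Pullback.IsPullback.Basic

/-!
Base change of finite locally free affine groupoids along maps out of the invariants.
-/

universe u

open CategoryTheory CategoryTheory.Limits TensorProduct

namespace Groth.Agent.H13Grpd

section Cat

variable {C D X Y : CommRingCat.{u}} (d : C ⟶ D)

/-- The base change of a map under `C`. -/
noncomputable abbrev bcMap {aX : C ⟶ X} {aY : C ⟶ Y} (h : X ⟶ Y) (w : aX ≫ h = aY) :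
    pushout aX d ⟶ pushout aY d :=
  pushout.map aX d aY d h (𝟙 D) (𝟙 C) (by rw [w, Category.id_comp]) (by simp)

@[reassoc]
theorem inl_bcMap {aX : C ⟶ X} {aY : C ⟶ Y} (h : X ⟶ Y) (w : aX ≫ h = aY) :
    pushout.inl aX d ≫ bcMap d h w = h ≫ pushout.inl aY d := by
  simp only [bcMap, pushout.map]
  exact pushout.inl_desc _ _ _

@[reassoc]
theorem inr_bcMap {aX : C ⟶ X} {aY : C ⟶ Y} (h : X ⟶ Y) (w : aX ≫ h = aY) :
    pushout.inr aX d ≫ bcMap d h w = pushout.inr aY d := by
  simp only [bcMap, pushout.map]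
  exact (pushout.inr_desc _ _ _).trans (Category.id_comp _)

theorem isPushout_bcMap {aX : C ⟶ X} {aY : C ⟶ Y} (h : X ⟶ Y) (w : aX ≫ h = aY) :
    IsPushout h (pushout.inl aX d) (pushout.inl aY d) (bcMap d h w) :=
  IsPushout.of_left (h₁₁ := aX) (v₁₁ := d) (h₂₁ := pushout.inr aX d)
    (by
      rw [w, show pushout.inr aX d ≫ bcMap d h w = pushout.inr aY d by
        simp only [bcMap, pushout.map, pushout.inr_desc, Category.id_comp]]
      exact IsPushout.of_hasPushout aY d)
    (by simp only [bcMap, pushout.map, pushout.inl_desc]) (IsPushout.of_hasPushout aX d)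

/-- A cube with cocartesian vertical faces and top has cocartesian bottom. -/
theorem isPushout_cube {Z W : CommRingCat.{u}} {Z' W' X' Y' : CommRingCat.{u}} {f : Z ⟶ X} {g : Z ⟶ Y}
    {i : X ⟶ W} {j : Y ⟶ W} {z : Z ⟶ Z'} {x : X ⟶ X'} {y : Y ⟶ Y'} {w : W ⟶ W'} {f' : Z' ⟶ X'} {g' : Z' ⟶ Y'}
    {i' : X' ⟶ W'} {j' : Y' ⟶ W'} (top : IsPushout f g i j) (left : IsPushout f z x f')
    (right : IsPushout j y w j') (hi : i ≫ w = x ≫ i') (hg : g ≫ y = z ≫ g')
    (hw : f' ≫ i' = g' ≫ j') : IsPushout f' g' i' j' := by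
  have outer := top.paste_vert right
  rw [hi, hg] at outer
  exact IsPushout.of_top outer hw left

theorem prop_of_isPushout {P : ∀ {R S : Type u} [CommRing R] [CommRing S], (R →+* S) → Prop}
    (hP : RingHom.IsStableUnderBaseChange @P) {A B A' B' : CommRingCat.{u}} {σ : A ⟶ B} {φ : A ⟶ A'}
    {f : B ⟶ B'} {σ' : A' ⟶ B'} (h : IsPushout σ φ f σ') (H : P σ.hom) : P σ'.hom := by
  algebraize [σ.hom, φ.hom, f.hom, σ'.hom, (σ ≫ f).hom]
  have : IsScalarTower A B B' := IsScalarTower.of_algebraMap_eq fun _ => rfl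
  have : IsScalarTower A A' B' := IsScalarTower.of_algebraMap_eq fun x => congr($(h.w) x)
  have : Algebra.IsPushout A B A' B' := CommRingCat.isPushout_iff_isPushout.1 h
  exact hP A B A' B' H

end Cat

namespace AffRel

variable (G : AffRel.{u}) {D : CommRingCat.{u}} (d : CommRingCat.of G.invariants ⟶ D)

/-- The structure map of the ring of arrows. -/
noncomputable def inclB : CommRingCat.of G.invariants ⟶ G.B := G.incl ≫ G.σ

/-- The structure map of the ring of composable pairs. -/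
noncomputable def inclB₂ : CommRingCat.of G.invariants ⟶ G.B₂ := G.inclB ≫ G.p₁

theorem incl_τ : G.incl ≫ G.τ = G.inclB := by
  ext a
  exact a.2.symm

theorem inclB_ε : G.inclB ≫ G.ε = G.incl := by rw [inclB, Category.assoc, G.εσ, Category.comp_id]

theorem inclB_inv : G.inclB ≫ G.inv = G.inclB := by
  conv_lhs => rw [inclB, Category.assoc, G.invσ, G.incl_τ]

theorem inclB_p₂ : G.inclB ≫ G.p₂ = G.inclB₂ := by
  conv_lhs => rw [← G.incl_τ, Category.assoc, ← G.sq₁.w, ← Category.assoc, ← inclB]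
  rfl

theorem inclB_c : G.inclB ≫ G.c = G.inclB₂ := by
  conv_lhs => rw [inclB, Category.assoc, G.sq₂.w, ← Category.assoc, ← inclB, G.inclB_p₂]

/-- The base change. -/
noncomputable def bc : AffRel.{u} where
  A := pushout G.incl d
  B := pushout G.inclB d
  B₂ := pushout G.inclB₂ d
  σ := bcMap d G.σ rfl
  τ := bcMap d G.τ G.incl_τ
  ε := bcMap d G.ε G.inclB_ε
  inv := bcMap d G.inv G.inclB_inv
  p₁ := bcMap d G.p₁ rfl
  p₂ := bcMap d G.p₂ G.inclB_p₂
  c := bcMap d G.c G.inclB_c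
  εσ := by apply pushout.hom_ext <;> simp [inl_bcMap, inl_bcMap_assoc, inr_bcMap, inr_bcMap_assoc, reassoc_of% G.εσ]
  ετ := by apply pushout.hom_ext <;> simp [inl_bcMap, inl_bcMap_assoc, inr_bcMap, inr_bcMap_assoc, reassoc_of% G.ετ]
  invσ := by apply pushout.hom_ext <;> simp [inl_bcMap, inl_bcMap_assoc, inr_bcMap, inr_bcMap_assoc, reassoc_of% G.invσ]
  invτ := by apply pushout.hom_ext <;> simp [inl_bcMap, inl_bcMap_assoc, inr_bcMap, inr_bcMap_assoc, reassoc_of% G.invτ]
  cτ := by apply pushout.hom_ext <;> simp [inl_bcMap, inl_bcMap_assoc, inr_bcMap, inr_bcMap_assoc, reassoc_of% G.cτ]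
  sq₁ := isPushout_cube G.sq₁ (isPushout_bcMap d G.σ rfl) (isPushout_bcMap d G.p₂ G.inclB_p₂)
    (isPushout_bcMap d G.p₁ rfl).w (isPushout_bcMap d G.τ G.incl_τ).w
    (by apply pushout.hom_ext <;> simp [inl_bcMap, inl_bcMap_assoc, inr_bcMap, inr_bcMap_assoc, reassoc_of% G.sq₁.w])
  sq₂ := isPushout_cube G.sq₂ (isPushout_bcMap d G.σ rfl) (isPushout_bcMap d G.p₂ G.inclB_p₂)
    (isPushout_bcMap d G.c G.inclB_c).w (isPushout_bcMap d G.σ rfl).w
    (by apply pushout.hom_ext <;> simp [inl_bcMap, inl_bcMap_assoc, inr_bcMap, inr_bcMap_assoc, reassoc_of% G.sq₂.w])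
  finite := prop_of_isPushout RingHom.finite_isStableUnderBaseChange (isPushout_bcMap d G.σ rfl) G.finite
  flat := prop_of_isPushout RingHom.Flat.isStableUnderBaseChange (isPushout_bcMap d G.σ rfl) G.flat
  fp := prop_of_isPushout RingHom.finitePresentation_isStableUnderBaseChange (isPushout_bcMap d G.σ rfl) G.fp

/-- The map from the ring of functions to its base change. -/
noncomputable def bcA : G.A ⟶ (G.bc d).A := pushout.inl G.incl d

/-- The map from the ring of arrows to its base change. -/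
noncomputable def bcB : G.B ⟶ (G.bc d).B := pushout.inl G.inclB d

theorem isPushout_bc_σ : IsPushout G.σ (G.bcA d) (G.bcB d) (G.bc d).σ := isPushout_bcMap d G.σ rfl

theorem isPushout_bc_τ : IsPushout G.τ (G.bcA d) (G.bcB d) (G.bc d).τ := isPushout_bcMap d G.τ G.incl_τ

/-- The target functions generate. -/
def Gen : Prop :=
  letI := G.algσ
  Submodule.span G.A (Set.range G.τ) = ⊤

variable {G} in
theorem Gen.bc (hG : G.Gen) : (G.bc d).Gen := by
  letI := G.algσ
  letI := (G.bc d).algσ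
  have h := (AffRel.isBC_of_isPushout (G.isPushout_bc_σ d)).span
  refine eq_top_iff.2 (h.ge.trans (Submodule.span_le.2 ?_))
  rintro _ ⟨m, rfl⟩
  have hm : m ∈ Submodule.span G.A (Set.range G.τ) := by rw [hG]; trivial
  induction hm using Submodule.span_induction with
  | mem z hz =>
    obtain ⟨a, rfl⟩ := hz
    exact Submodule.subset_span ⟨G.bcA d a, congr($((G.isPushout_bc_τ d).w.symm) a)⟩
  | zero => rw [map_zero]; exact zero_mem _
  | add x y _ _ hx hy => rw [map_add]; exact add_mem hx hy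
  | smul r z _ hz =>
    rw [LinearMap.map_smulₛₗ]
    exact Submodule.smul_mem _ _ hz

theorem invariants_bc (hd : d.hom.Flat) :
    Function.Injective (pushout.inr G.incl d).hom ∧
      ∀ x, x ∈ (G.bc d).invariants ↔ x ∈ Set.range (pushout.inr G.incl d).hom := by
  have hA : IsPushout d (𝟙 (CommRingCat.of G.invariants)) (𝟙 D) d :=
    IsPushout.of_vert_isIso ⟨by simp⟩
  obtain ⟨h1, h2⟩ := Groth.Agent.H13AlgSp.injective_and_range_of_flat hd hA
    (IsPushout.of_hasPushout G.incl d).flip (IsPushout.of_hasPushout G.inclB d).flip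
    (ι := G.incl) (Category.id_comp _) (f := G.σ) (g := G.τ) rfl G.incl_τ G.injective_incl
    (fun b => ⟨fun h => ⟨⟨b, h⟩, rfl⟩, by rintro ⟨y, rfl⟩; exact y.2⟩)
    (ι' := pushout.inr G.incl d) (Category.id_comp _) (pushout.condition).symm
    (f' := (G.bc d).σ) (g' := (G.bc d).τ) (by simp [bc, inl_bcMap, inr_bcMap]) (by simp [bc, inl_bcMap, inr_bcMap]) (by simp [bc, inl_bcMap, inr_bcMap])
    (by simp [bc, inl_bcMap, inr_bcMap])
  refine ⟨h1, fun x => ⟨fun hx => h2 x hx, ?_⟩⟩
  rintro ⟨y, rfl⟩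
  refine (G.bc d).mem_invariants.2 ?_
  have e : pushout.inr G.incl d ≫ (G.bc d).σ = pushout.inr G.incl d ≫ (G.bc d).τ := by simp [bc, inl_bcMap, inr_bcMap]
  exact congr($e y)

end AffRel

end Groth.Agent.H13Grpd
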