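import Groth.Agent.H13Grpd.AffRel
import Mathlib.LinearAlgebra.TensorProduct.Finiteness
import Mathlib.LinearAlgebra.TensorProduct.Basis

/-!
An equivalence relation free on target functions is the square over its invariants.
-/

universe u v

open CategoryTheory CategoryTheory.Limits TensorProduct

namespace Groth.Agent.H13Grpd

variable {A B B₂ : CommRingCat.{u}} {σ τ : A ⟶ B} {ε : B ⟶ A} {p₁ p₂ c : B ⟶ B₂}

theorem basis_invariants (hεσ : σ ≫ ε = 𝟙 A) (hετ : τ ≫ ε = 𝟙 A) (sq : IsPushout σ τ p₁ p₂)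
    (hcσ : σ ≫ c = σ ≫ p₂) (hcτ : τ ≫ c = τ ≫ p₁) {I : Type v} (x : I → A)
    (hb : letI := σ.hom.toAlgebra; ∃ b : Module.Basis I A B, ∀ i, b i = τ (x i)) :
    (∃ b : Module.Basis I (RingHom.eqLocus σ.hom τ.hom) A, ∀ i, b i = x i) ∧
      (letI := (σ.hom.comp (RingHom.eqLocus σ.hom τ.hom).subtype).toAlgebra
       ∀ φ : A ⊗[RingHom.eqLocus σ.hom τ.hom] A →ₗ[RingHom.eqLocus σ.hom τ.hom] B,
        (∀ a a' : A, φ (a ⊗ₜ a') = τ a * σ a') → Function.Bijective φ) := by
  classical
  letI iA := σ.hom.toAlgebra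
  letI iB := p₂.hom.toAlgebra
  obtain ⟨b, hb⟩ := hb
  let C := RingHom.eqLocus σ.hom τ.hom
  have hbc := AffRel.isBC_of_isPushout sq
  choose g hg using fun i => hbc.ext (b.coord i)
  -- the coefficients of a target function are invariant
  have hinv : ∀ y i, b.repr (τ y) i ∈ C := fun y i => by
    have hy := b.linearCombination_repr (τ y)
    rw [Finsupp.linearCombination_apply, Finsupp.sum] at hy
    have h1 : c (τ y) = ∑ j ∈ (b.repr (τ y)).support, (σ (b.repr (τ y) j)) • (p₁ (b j) : B₂) := by
      conv_lhs => rw [← hy]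
      rw [map_sum]
      refine Finset.sum_congr rfl fun j _ => ?_
      rw [Algebra.smul_def, Algebra.smul_def, map_mul, hb]
      exact congrArg₂ (· * ·) congr($(hcσ) _) congr($(hcτ) _)
    have h2 := congrArg (g i) ((congr($(hcτ) y) : c (τ y) = p₁ (τ y)).symm.trans h1)
    rw [map_sum, show g i (p₁ (τ y)) = τ (b.repr (τ y) i) from hg i (τ y)] at h2
    simp only [map_smul] at h2
    rw [Finset.sum_eq_single i (fun j _ hj => ?_) fun hi => ?_] at h2
    · rw [show g i (p₁ (b i)) = τ (b.coord i (b i)) from hg i (b i), Module.Basis.coord_apply,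
        b.repr_self, Finsupp.single_eq_same, map_one, smul_eq_mul, mul_one] at h2
      exact h2.symm
    · rw [show g i (p₁ (b j)) = τ (b.coord i (b j)) from hg i (b j), Module.Basis.coord_apply,
        b.repr_self, Finsupp.single_eq_of_ne hj.symm, map_zero, smul_zero]
    · rw [Finsupp.notMem_support_iff.1 hi, map_zero, zero_smul]
  have hεσ' : ∀ a, ε (σ a) = a := fun a => congr($(hεσ) a)
  have hετ' : ∀ a, ε (τ a) = a := fun a => congr($(hετ) a)
  have hspan : ⊤ ≤ Submodule.span C (Set.range x) := fun y _ => by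
    have hy := congrArg ε (b.linearCombination_repr (τ y))
    rw [Finsupp.linearCombination_apply, Finsupp.sum, map_sum, hετ'] at hy
    rw [← hy]
    refine Submodule.sum_mem _ fun j _ => ?_
    rw [Algebra.smul_def, map_mul, hb, hετ']
    change ε (σ (b.repr (τ y) j)) * x j ∈ _
    rw [hεσ']
    exact Submodule.smul_mem _ (⟨_, hinv y j⟩ : C) (Submodule.subset_span ⟨j, rfl⟩)
  have hli : LinearIndependent C x := by
    rw [linearIndependent_iff']
    intro s a ha j hj
    have h0 : ∑ i ∈ s, (a i : A) • b i = 0 := by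
      rw [← map_zero τ.hom, ← ha, map_sum]
      refine Finset.sum_congr rfl fun i _ => ?_
      rw [Algebra.smul_def, hb, Subring.smul_def, smul_eq_mul, map_mul]
      exact congrArg (· * τ (x i)) (a i).2
    exact Subtype.ext (linearIndependent_iff'.1 b.linearIndependent s (fun i => (a i : A)) h0 j hj)
  let bA : Module.Basis I C A := Module.Basis.mk hli hspan
  refine ⟨⟨bA, fun i => Module.Basis.mk_apply _ _ i⟩, ?_⟩
  letI := (σ.hom.comp C.subtype).toAlgebra
  intro φ hφ
  let e := TensorProduct.equivFinsuppOfBasisLeft (N := A) bA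
  have he : ∀ z : I →₀ A, φ (e.symm z) = b.repr.symm z := fun z => by
    rw [TensorProduct.equivFinsuppOfBasisLeft_symm_apply, map_finsuppSum, b.repr_symm_apply,
      Finsupp.linearCombination_apply]
    refine Finsupp.sum_congr fun i _ => ?_
    rw [hφ, Algebra.smul_def, hb, mul_comm, Module.Basis.mk_apply]
    rfl
  refine ⟨fun s t hst => ?_, fun y => ⟨e.symm (b.repr y), by rw [he, LinearEquiv.symm_apply_apply]⟩⟩
  rw [← e.symm_apply_apply s, ← e.symm_apply_apply t, he, he] at hst
  exact e.injective (b.repr.symm.injective hst)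

end Groth.Agent.H13Grpd
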