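import Groth.Agent.H13Grpd.AffBC
import Groth.Agent.H13Grpd.AffBasis
import Mathlib.RingTheory.LocalRing.Module
import Mathlib.RingTheory.Spectrum.Prime.FreeLocus
import Mathlib.LinearAlgebra.Matrix.NonsingularInverse
import Mathlib.RingTheory.Ideal.GoingUp

/-!
A finite locally free affine equivalence relation over local invariants with infinite residue field has
a basis of target functions.
-/

universe u

open CategoryTheory CategoryTheory.Limits TensorProduct

namespace Groth.Agent.H13Grpd

/-- Finitely many proper submodules do not cover a module over a local ring with infinite residue field. -/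
theorem exists_notMem_of_ne_top {C : Type*} [CommRing C] [IsLocalRing C] [Infinite (IsLocalRing.ResidueField C)]
    {M : Type*} [AddCommGroup M] [Module C M] {ι : Type*} (s : Finset ι) (W : ι → Submodule C M)
    (hW : ∀ i ∈ s, W i ≠ ⊤) : ∃ x : M, ∀ i ∈ s, x ∉ W i := by
  classical
  induction s using Finset.induction with
  | empty => exact ⟨0, by simp⟩
  | @insert a s ha ih =>
    obtain ⟨x, hx⟩ := ih fun i hi => hW i (Finset.mem_insert_of_mem hi)
    by_cases hxa : x ∉ W a
    · exact ⟨x, fun i hi => (Finset.mem_insert.1 hi).elim (fun h => h ▸ hxa) (hx i)⟩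
    push Not at hxa
    obtain ⟨y, hy⟩ : ∃ y, y ∉ W a := by
      by_contra! h
      exact hW a (Finset.mem_insert_self a s) (Submodule.eq_top_iff'.2 h)
    let lift := Function.surjInv (f := IsLocalRing.residue C) IsLocalRing.residue_surjective
    by_contra! hall
    have hsub : ∀ k : IsLocalRing.ResidueField C, ∃ i ∈ s, y + lift k • x ∈ W i := fun k => by
      obtain ⟨i, hi, hm⟩ := hall (y + lift k • x)
      rcases Finset.mem_insert.1 hi with rfl | hi'
      · exact absurd (by simpa using sub_mem hm ((W i).smul_mem (lift k) hxa)) hy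
      · exact ⟨i, hi', hm⟩
    choose f hf hfm using hsub
    obtain ⟨k₁, k₂, hne, he⟩ := Finite.exists_ne_map_eq_of_infinite fun k => (⟨f k, hf k⟩ : s)
    have he' : f k₁ = f k₂ := congrArg Subtype.val he
    have hdiff : (lift k₁ - lift k₂) • x ∈ W (f k₁) := by
      have := sub_mem (hfm k₁) (he' ▸ hfm k₂)
      rwa [add_sub_add_left_eq_sub, ← sub_smul] at this
    have hu : IsUnit (lift k₁ - lift k₂) := by
      rw [← IsLocalRing.residue_ne_zero_iff_isUnit, map_sub, sub_ne_zero]
      simpa [lift, Function.surjInv_eq IsLocalRing.residue_surjective] using hne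
    exact hx _ (hf k₁) ((Submodule.smul_mem_iff_of_isUnit _ hu).1 hdiff)

/-- A spanning set stable under the scalars of a local ring contains a basis, over a semilocal ring. -/
theorem exists_basis_mem {C A M : Type*} [CommRing C] [IsLocalRing C] [Infinite (IsLocalRing.ResidueField C)]
    [CommRing A] [Algebra C A] [AddCommGroup M] [Module A M] [Module C M] [IsScalarTower C A M]
    [Finite (MaximalSpectrum A)] {n : ℕ} (b₀ : Module.Basis (Fin n) A M) {T : Type*} [AddCommGroup T] [Module C T]
    (t : T →ₗ[C] M) (ht : Submodule.span A (Set.range t) = ⊤) :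
    ∃ (x : Fin n → T) (b : Module.Basis (Fin n) A M), ∀ i, b i = t (x i) := by
  classical
  let := Fintype.ofFinite (MaximalSpectrum A)
  let v : (P : MaximalSpectrum A) → M →ₗ[A] Fin n → (A ⧸ P.1) := fun P =>
    (LinearMap.pi fun i => (Algebra.linearMap A (A ⧸ P.1)).comp (b₀.coord i))
  have hv : ∀ P, Submodule.span (A ⧸ P.1) (Set.range fun s => v P (t s)) = ⊤ := fun P => by
    rw [eq_top_iff]
    rintro z -
    choose z' hz' using fun i => Ideal.Quotient.mk_surjective (z i)
    have hz : z = v P (∑ i, z' i • b₀ i) := funext fun i => by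
      simp [v, map_sum, Finsupp.single_apply, Algebra.smul_def, ← Ideal.Quotient.algebraMap_eq] at hz' ⊢; rw [hz']
    rw [hz]
    have hm : (∑ i, z' i • b₀ i) ∈ Submodule.span A (Set.range t) := by rw [ht]; trivial
    generalize (∑ i, z' i • b₀ i) = m at hm
    induction hm using Submodule.span_induction with
    | mem m hm => obtain ⟨s, rfl⟩ := hm; exact Submodule.subset_span ⟨s, rfl⟩
    | zero => rw [map_zero]; exact zero_mem _
    | add x y _ _ hx hy => rw [map_add]; exact add_mem hx hy
    | smul r y _ hy =>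
      rw [map_smul, ← algebraMap_smul (A ⧸ P.1) r (v P y)]
      exact Submodule.smul_mem _ _ hy
  obtain ⟨x, hx⟩ : ∃ x : Fin n → T, ∀ P, LinearIndependent (A ⧸ P.1) fun i => v P (t (x i)) := by
    suffices H : ∀ k ≤ n, ∃ x : Fin k → T, ∀ P, LinearIndependent (A ⧸ P.1) fun i => v P (t (x i)) from
      H n le_rfl
    intro k hk
    induction k with
    | zero => exact ⟨Fin.elim0, fun P => linearIndependent_empty_type⟩
    | succ k ih =>
      obtain ⟨x, hx⟩ := ih (Nat.le_of_succ_le hk)
      let W : MaximalSpectrum A → Submodule C T := fun P =>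
        ((Submodule.span (A ⧸ P.1) (Set.range fun i => v P (t (x i)))).restrictScalars A |>.restrictScalars C).comap
          (((v P).restrictScalars C).comp t)
      obtain ⟨y, hy⟩ := exists_notMem_of_ne_top (Finset.univ : Finset (MaximalSpectrum A)) W fun P _ htop => by
        let := Ideal.Quotient.field P.1
        have hsub : Submodule.span (A ⧸ P.1) (Set.range fun i => v P (t (x i))) = ⊤ := by
          refine eq_top_iff.2 ((hv P).ge.trans (Submodule.span_le.2 ?_))
          rintro _ ⟨s, rfl⟩
          exact (SetLike.ext_iff.1 htop s).2 trivial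
        have h1 := finrank_range_le_card (R := A ⧸ P.1) fun i => v P (t (x i))
        rw [Set.finrank, hsub, finrank_top, Module.finrank_pi, Fintype.card_fin, Fintype.card_fin] at h1
        omega
      refine ⟨Fin.snoc x y, fun P => ?_⟩
      let := Ideal.Quotient.field P.1
      rw [show (fun i => v P (t ((Fin.snoc x y : Fin (k + 1) → T) i))) =
        Fin.snoc (fun i => v P (t (x i))) (v P (t y)) from funext fun i =>
          Fin.lastCases (by simp) (fun j => by simp) i, linearIndependent_finSnoc]
      exact ⟨hx P, hy P (Finset.mem_univ P)⟩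
  refine ⟨x, ?_⟩
  have hdet : IsUnit (b₀.det fun i => t (x i)) := by
    by_contra hu
    obtain ⟨P, hP, hmem⟩ := exists_max_ideal_of_mem_nonunits hu
    let := Ideal.Quotient.field P
    have hli := hx ⟨P, hP⟩
    have hM : IsUnit ((b₀.toMatrix fun i => t (x i)).map (Ideal.Quotient.mk P)) := by
      rw [← Matrix.linearIndependent_cols_iff_isUnit]
      exact hli
    rw [Matrix.isUnit_iff_isUnit_det, ← RingHom.mapMatrix_apply, ← RingHom.map_det] at hM
    exact hM.ne_zero (Ideal.Quotient.eq_zero_iff_mem.2 hmem)
  obtain ⟨hli, hsp⟩ := (b₀.is_basis_iff_det).2 hdet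
  exact ⟨Module.Basis.mk hli hsp.ge, fun i => Module.Basis.mk_apply _ _ i⟩

namespace AffRel

variable (G : AffRel.{u})

theorem rankAtStalk_pushout {A B A' B' : CommRingCat.{u}} {σ : A ⟶ B} {φ : A ⟶ A'} {f : B ⟶ B'}
    {σ' : A' ⟶ B'} (h : IsPushout σ φ f σ') (hfl : σ.hom.Flat) (hfi : σ.hom.Finite) :
    letI := σ.hom.toAlgebra; letI := σ'.hom.toAlgebra
    ∀ r : PrimeSpectrum A', Module.rankAtStalk B' r = Module.rankAtStalk B (PrimeSpectrum.comap φ.hom r) := by
  intro r
  algebraize [φ.hom, f.hom]
  letI := σ.hom.toAlgebra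
  letI := σ'.hom.toAlgebra
  letI : Algebra A B' := (σ ≫ f).hom.toAlgebra
  have : Module.Flat A B := hfl
  have : Module.Finite A B := hfi
  have : IsScalarTower A B B' := IsScalarTower.of_algebraMap_eq fun _ => rfl
  have : IsScalarTower A A' B' := IsScalarTower.of_algebraMap_eq fun x => congr($(h.w) x)
  have hp : Algebra.IsPushout A B A' B' := CommRingCat.isPushout_iff_isPushout.1 h
  exact Module.rankAtStalk_isBaseChange hp.symm.out r

/-- Over local invariants with infinite residue field, there is a basis of target functions. -/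
theorem exists_basis_of_isLocalRing (hG : G.Gen) [IsLocalRing G.invariants]
    [Infinite (IsLocalRing.ResidueField G.invariants)] :
    letI := G.algσ
    ∃ (n : ℕ) (x : Fin n → G.A) (b : Module.Basis (Fin n) G.A G.B), ∀ i, b i = G.τ (x i) := by
  letI := G.algσ
  letI := G.algp₂
  have := G.projective.2.1
  have := G.projective.2.2.1
  letI : Algebra G.invariants G.A := G.incl.hom.toAlgebra
  have : Algebra.IsIntegral G.invariants G.A := ⟨G.isIntegral⟩
  rcases isEmpty_or_nonempty (MaximalSpectrum G.A) with he | ⟨⟨q₀⟩⟩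
  · have : Subsingleton G.A := by
      by_contra hn
      rw [not_subsingleton_iff_nontrivial] at hn
      obtain ⟨m, hm⟩ := Ideal.exists_maximal G.A
      exact he.elim ⟨m, hm⟩
    have : Subsingleton G.B := Module.subsingleton G.A G.B
    exact ⟨0, Fin.elim0, Module.Basis.empty _, fun i => i.elim0⟩
  have hover : ∀ q : MaximalSpectrum G.A, ∃ r : PrimeSpectrum G.B,
      PrimeSpectrum.comap G.σ.hom r = q₀.toPrimeSpectrum ∧ PrimeSpectrum.comap G.τ.hom r = q.toPrimeSpectrum := by
    intro q
    refine G.comap_τ_of_comap_incl (PrimeSpectrum.ext ?_)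
    have h0 := Ideal.isMaximal_comap_of_isIntegral_of_isMaximal (R := G.invariants) q₀.1
    have h1 := Ideal.isMaximal_comap_of_isIntegral_of_isMaximal (R := G.invariants) q.1
    exact (IsLocalRing.eq_maximalIdeal h0).trans (IsLocalRing.eq_maximalIdeal h1).symm
  choose r hrσ hrτ using hover
  have : Finite (MaximalSpectrum G.A) := by
    have hfin : (PrimeSpectrum.comap (algebraMap G.A G.B) ⁻¹' {q₀.toPrimeSpectrum}).Finite :=
      Algebra.QuasiFinite.finite_comap_preimage_singleton _
    have := hfin.to_subtype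
    refine Finite.of_injective (fun q => (⟨r q, hrσ q⟩ : ↥(PrimeSpectrum.comap (algebraMap G.A G.B) ⁻¹'
      {q₀.toPrimeSpectrum}))) fun q q' h => ?_
    have := hrτ q
    rw [show r q = r q' from congrArg Subtype.val h, hrτ q'] at this
    exact MaximalSpectrum.toPrimeSpectrum_injective this.symm
  let n := Module.rankAtStalk G.B q₀.toPrimeSpectrum
  have hrank : ∀ q : MaximalSpectrum G.A, Module.rankAtStalk G.B q.toPrimeSpectrum = n := fun q => by
    have e1 := rankAtStalk_pushout G.sq₁ G.flat G.finite (r q)
    have e2 := rankAtStalk_pushout G.sq₂ G.flat G.finite (r q)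
    rw [hrτ q] at e1
    rw [hrσ q] at e2
    exact e1.symm.trans e2
  obtain ⟨b₀⟩ := Module.nonempty_basis_of_flat_of_finrank_eq G.A G.B n fun P => by
    let := Ideal.Quotient.field P.1
    have h1 := Module.rankAtStalk_baseChange (R := G.A) (M := G.B) (S := G.A ⧸ P.1) (⟨⊥, Ideal.isPrime_bot⟩ : PrimeSpectrum _)
    rw [Module.rankAtStalk_eq_finrank_of_free, Pi.natCast_apply, Nat.cast_id] at h1
    rw [h1, show PrimeSpectrum.comap (algebraMap G.A (G.A ⧸ P.1)) ⟨⊥, Ideal.isPrime_bot⟩ = P.toPrimeSpectrum from
      PrimeSpectrum.ext (Ideal.mk_ker), hrank]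
  letI : Algebra G.invariants G.B := (G.incl ≫ G.σ).hom.toAlgebra
  have : IsScalarTower G.invariants G.A G.B := IsScalarTower.of_algebraMap_eq fun _ => rfl
  let t : G.A →ₗ[G.invariants] G.B :=
    { toFun := G.τ
      map_add' := map_add G.τ.hom
      map_smul' := fun c a => (map_mul G.τ.hom _ _).trans (congrArg (· * G.τ a) c.2.symm) }
  obtain ⟨x, b, hb⟩ := exists_basis_mem b₀ t hG
  exact ⟨n, x, b, hb⟩

end AffRel

end Groth.Agent.H13Grpd
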