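import Groth.Agent.H13Grpd.AffMain
import Mathlib.RingTheory.MvPolynomial.Basic
import Mathlib.RingTheory.RingHom.Integral
import Mathlib.RingTheory.RingHom.Surjective

/-!
Orbits of base changes of finite locally free affine groupoids: pairs of points over the invariants
are joined by arrows.
-/

universe u

open CategoryTheory CategoryTheory.Limits TensorProduct

namespace Groth.Agent.H13Grpd

namespace AffRel

variable (G : AffRel.{u})

/-- Two points are joined by an arrow if no norm separates them. -/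
theorem exists_arrow_of_norm {q q' : PrimeSpectrum G.A} {D : CommRingCat.{u}} (j : D ⟶ G.A)
    (hj : j ≫ G.σ = j ≫ G.τ) (hint : j.hom.IsIntegral) (hN : ∀ f, G.norm f ∈ j.hom.range)
    (h : PrimeSpectrum.comap j.hom q = PrimeSpectrum.comap j.hom q') :
    ∃ r : PrimeSpectrum G.B, PrimeSpectrum.comap G.σ.hom r = q ∧ PrimeSpectrum.comap G.τ.hom r = q' := by
  letI := G.algσ
  have := G.projective.2.1
  by_contra! hne
  have hfin : (PrimeSpectrum.comap (algebraMap G.A G.B) ⁻¹' {q}).Finite :=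
    Algebra.QuasiFinite.finite_comap_preimage_singleton q
  letI : Algebra D G.A := j.hom.toAlgebra
  have : Algebra.IsIntegral D G.A := ⟨hint⟩
  have hτσ : ∀ r : PrimeSpectrum G.B,
      PrimeSpectrum.comap j.hom (PrimeSpectrum.comap G.τ.hom r) =
        PrimeSpectrum.comap j.hom (PrimeSpectrum.comap G.σ.hom r) := fun r => by
    rw [← PrimeSpectrum.comap_comp_apply, ← PrimeSpectrum.comap_comp_apply, ← CommRingCat.hom_comp,
      ← CommRingCat.hom_comp, hj]
  obtain ⟨f, hfq', hf⟩ : ∃ f ∈ q'.asIdeal, ∀ r ∈ hfin.toFinset, G.τ f ∉ r.asIdeal := by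
    by_contra! hall
    obtain ⟨r, hr, hle⟩ := (Ideal.subset_union_prime (s := hfin.toFinset)
      (f := fun r => r.asIdeal.comap G.τ.hom) (PrimeSpectrum.comap G.ε.hom q) (PrimeSpectrum.comap G.ε.hom q)
      (fun r _ _ _ => inferInstance)).1 fun a ha => by
        obtain ⟨r, hr, h⟩ := hall a ha
        exact Set.mem_biUnion hr h
    have hrσ : PrimeSpectrum.comap G.σ.hom r = q := hfin.mem_toFinset.1 hr
    refine hne r hrσ ?_
    by_contra hne'
    have hlt : q'.asIdeal < r.asIdeal.comap G.τ.hom :=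
      lt_of_le_of_ne hle fun e => hne' (PrimeSpectrum.ext e.symm)
    have hlt2 := Ideal.IsIntegral.comap_lt_comap (R := D) hlt
    refine hlt2.ne ?_
    have := hτσ r
    rw [hrσ, h] at this
    exact congrArg PrimeSpectrum.asIdeal this.symm
  have h1 : G.norm f ∉ q.asIdeal := (G.norm_notMem_iff f q).2 fun r hr => hf r (hfin.mem_toFinset.2 hr)
  have h2 : G.norm f ∈ q'.asIdeal := by
    by_contra hn
    refine (G.norm_notMem_iff f q').1 hn (PrimeSpectrum.comap G.ε.hom q') ?_ ?_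
    · rw [← PrimeSpectrum.comap_comp_apply, ← CommRingCat.hom_comp, G.εσ, CommRingCat.hom_id,
        PrimeSpectrum.comap_id]
    · show G.ε (G.τ f) ∈ q'.asIdeal
      rw [show G.ε (G.τ f) = f from congr($(G.ετ) f)]
      exact hfq'
  obtain ⟨d, hd⟩ := hN f
  refine h1 ?_
  rw [← hd] at h2 ⊢
  exact (SetLike.ext_iff.1 (congrArg PrimeSpectrum.asIdeal h) d).2 h2

variable {D : CommRingCat.{u}} (d : CommRingCat.of G.invariants ⟶ D)

/-- The map from the new base to the base change of the functions. -/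
noncomputable def bcR : D ⟶ (G.bc d).A := pushout.inr G.incl d

/-- The map from the new base to the base change of the arrows. -/
noncomputable def bcRB : D ⟶ (G.bc d).B := pushout.inr G.inclB d

theorem isPushout_bcA : IsPushout G.incl d (G.bcA d) (G.bcR d) := IsPushout.of_hasPushout _ _

theorem isPushout_bcB : IsPushout G.inclB d (G.bcB d) (G.bcRB d) := IsPushout.of_hasPushout _ _

@[reassoc]
theorem bcR_σ : G.bcR d ≫ (G.bc d).σ = G.bcRB d := inr_bcMap d G.σ rfl

@[reassoc]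
theorem bcR_τ : G.bcR d ≫ (G.bc d).τ = G.bcRB d := inr_bcMap d G.τ G.incl_τ

@[reassoc]
theorem bcA_σ : G.bcA d ≫ (G.bc d).σ = G.σ ≫ G.bcB d := (G.isPushout_bc_σ d).w.symm

@[reassoc]
theorem bcA_τ : G.bcA d ≫ (G.bc d).τ = G.τ ≫ G.bcB d := (G.isPushout_bc_τ d).w.symm

/-- Norms of arbitrary base changes come from the base. -/
theorem norm_bc_mem (f : (G.bc d).A) : (G.bc d).norm f ∈ (G.bcR d).hom.range := by
  algebraize [d.hom]
  let D₁ : CommRingCat.{u} := CommRingCat.of (MvPolynomial D G.invariants)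
  let d₁ : CommRingCat.of G.invariants ⟶ D₁ := CommRingCat.ofHom (algebraMap G.invariants (MvPolynomial D G.invariants))
  let e : D₁ ⟶ D := CommRingCat.ofHom (MvPolynomial.aeval (R := G.invariants) (fun x : D => x)).toRingHom
  have he : d₁ ≫ e = d := by
    refine CommRingCat.hom_ext (RingHom.ext fun c => ?_)
    exact (MvPolynomial.aeval (R := G.invariants) (fun x : D => x)).commutes c
  have hes : Function.Surjective e.hom := fun x => ⟨MvPolynomial.X x, MvPolynomial.aeval_X _ _⟩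
  have hd₁ : d₁.hom.Flat := RingHom.flat_algebraMap_iff.2 inferInstance
  let mA : (G.bc d₁).A ⟶ (G.bc d).A := (G.isPushout_bcA d₁).desc (G.bcA d) (e ≫ G.bcR d)
    (by rw [reassoc_of% he]; exact (G.isPushout_bcA d).w)
  let mB : (G.bc d₁).B ⟶ (G.bc d).B := (G.isPushout_bcB d₁).desc (G.bcB d) (e ≫ G.bcRB d)
    (by rw [reassoc_of% he]; exact (G.isPushout_bcB d).w)
  have mA₁ : G.bcA d₁ ≫ mA = G.bcA d := IsPushout.inl_desc _ _ _ _
  have mB₁ : G.bcB d₁ ≫ mB = G.bcB d := IsPushout.inl_desc _ _ _ _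
  have mA₂ : G.bcR d₁ ≫ mA = e ≫ G.bcR d := IsPushout.inr_desc _ _ _ _
  have mB₂ : G.bcRB d₁ ≫ mB = e ≫ G.bcRB d := IsPushout.inr_desc _ _ _ _
  have wσ : (G.bc d₁).σ ≫ mB = mA ≫ (G.bc d).σ := by
    apply (G.isPushout_bcA d₁).hom_ext
    · rw [bcA_σ_assoc, mB₁, reassoc_of% mA₁, bcA_σ]
    · rw [bcR_σ_assoc, mB₂, reassoc_of% mA₂, bcR_σ]
  have wτ : (G.bc d₁).τ ≫ mB = mA ≫ (G.bc d).τ := by
    apply (G.isPushout_bcA d₁).hom_ext
    · rw [bcA_τ_assoc, mB₁, reassoc_of% mA₁, bcA_τ]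
    · rw [bcR_τ_assoc, mB₂, reassoc_of% mA₂, bcR_τ]
  have sq : IsPushout (G.bc d₁).σ mA mB (G.bc d).σ := by
    refine IsPushout.of_top ?_ wσ (G.isPushout_bc_σ d₁)
    rw [mA₁, mB₁]
    exact G.isPushout_bc_σ d
  have hms : Function.Surjective mA.hom := by
    have sqA : IsPushout e (G.bcR d₁) (G.bcR d) mA := by
      refine IsPushout.of_left (h₁₁ := d₁) ?_ mA₂.symm (G.isPushout_bcA d₁).flip
      rw [he, mA₁]
      exact (G.isPushout_bcA d).flip
    exact prop_of_isPushout RingHom.surjective_isStableUnderBaseChange sqA hes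
  obtain ⟨f₁, rfl⟩ := hms f
  obtain ⟨hinj, hrange⟩ := G.invariants_bc d₁ hd₁
  obtain ⟨y, hy⟩ := (hrange _).1 ((G.bc d₁).norm_mem f₁)
  letI := (G.bc d₁).algσ
  letI := (G.bc d).algσ
  have := (G.bc d₁).projective.1
  have := (G.bc d₁).projective.2.1
  have := (G.bc d).projective.1
  have := (G.bc d).projective.2.1
  have hn := nrm_baseChange (isBC_of_isPushout sq) ((G.bc d₁).mulτ f₁) ((G.bc d).mulτ (mA f₁)) fun m => by
    refine Eq.trans ?_ (map_mul mB.hom ((G.bc d₁).τ f₁) m).symm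
    exact congrArg (· * mB m) congr($(wτ.symm) f₁)
  refine ⟨e y, Eq.trans ?_ hn.symm⟩
  refine Eq.trans ?_ (congrArg mA hy)
  exact congr($(mA₂.symm) y)

/-- Any two points of a base change over the same point are joined by an arrow. -/
theorem exists_arrow_bc {q q' : PrimeSpectrum (G.bc d).A}
    (h : PrimeSpectrum.comap (G.bcR d).hom q = PrimeSpectrum.comap (G.bcR d).hom q') :
    ∃ r : PrimeSpectrum (G.bc d).B,
      PrimeSpectrum.comap (G.bc d).σ.hom r = q ∧ PrimeSpectrum.comap (G.bc d).τ.hom r = q' :=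
  (G.bc d).exists_arrow_of_norm (G.bcR d) ((G.bcR_σ d).trans (G.bcR_τ d).symm)
    (prop_of_isPushout RingHom.isIntegral_isStableUnderBaseChange (G.isPushout_bcA d) G.isIntegral)
    (G.norm_bc_mem d) h

/-- The pair of target and source surjects onto the square over the invariants. -/
theorem surjective_comap_pair :
    Function.Surjective (PrimeSpectrum.comap ((G.isPushout_bcA G.incl).desc G.τ G.σ G.incl_τ).hom) := by
  intro z
  let m : (G.bc G.incl).A ⟶ G.A := (G.isPushout_bcA G.incl).desc (𝟙 G.A) (𝟙 G.A) rfl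
  have m₁ : G.bcA G.incl ≫ m = 𝟙 G.A := IsPushout.inl_desc _ _ _ _
  have m₂ : G.bcR G.incl ≫ m = 𝟙 G.A := IsPushout.inr_desc _ _ _ _
  let q : PrimeSpectrum (G.bc G.incl).A :=
    PrimeSpectrum.comap m.hom (PrimeSpectrum.comap (G.bcR G.incl).hom z)
  obtain ⟨r', hσr, hτr⟩ := G.exists_arrow_bc G.incl (q := q) (q' := z) (by
    simp only [q]
    rw [← PrimeSpectrum.comap_comp_apply, ← CommRingCat.hom_comp, m₂, CommRingCat.hom_id, PrimeSpectrum.comap_id])
  let Ψ : (G.bc G.incl).B ⟶ G.B := (G.isPushout_bcB G.incl).desc (𝟙 G.B) G.σ (Category.comp_id _)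
  have Ψ₁ : G.bcB G.incl ≫ Ψ = 𝟙 G.B := IsPushout.inl_desc _ _ _ _
  have Ψ₂ : G.bcRB G.incl ≫ Ψ = G.σ := IsPushout.inr_desc _ _ _ _
  let π : (G.bc G.incl).B ⟶ CommRingCat.of ((G.bc G.incl).B ⧸ r'.asIdeal) :=
    CommRingCat.ofHom (Ideal.Quotient.mk r'.asIdeal)
  have hmem : ∀ a, G.bcA G.incl a - G.bcR G.incl a ∈ q.asIdeal := fun a => by
    refine Ideal.mem_comap.2 ?_
    rw [map_sub, show m.hom (G.bcA G.incl a) = a from congr($m₁ a),
      show m.hom (G.bcR G.incl a) = a from congr($m₂ a), sub_self]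
    exact zero_mem _
  have e : G.bcA G.incl ≫ (G.bc G.incl).σ ≫ π = G.bcR G.incl ≫ (G.bc G.incl).σ ≫ π := by
    refine CommRingCat.hom_ext (RingHom.ext fun a => Ideal.Quotient.eq.2 ?_)
    have h1 := hmem a
    rw [← hσr] at h1
    have h2 : (G.bc G.incl).σ (G.bcA G.incl a - G.bcR G.incl a) ∈ r'.asIdeal := h1
    rwa [map_sub] at h2
  have key : Ψ ≫ G.bcB G.incl ≫ π = π := by
    apply (G.isPushout_bcB G.incl).hom_ext
    · rw [reassoc_of% Ψ₁]
    · rw [reassoc_of% Ψ₂, ← bcA_σ_assoc, e, bcR_σ_assoc]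
  have hr : PrimeSpectrum.comap Ψ.hom (PrimeSpectrum.comap (G.bcB G.incl).hom r') = r' :=
    PrimeSpectrum.ext (Ideal.ext fun x => by
      have h := congr($key x)
      constructor
      · intro hx
        exact Ideal.Quotient.eq_zero_iff_mem.1 (h.symm.trans (Ideal.Quotient.eq_zero_iff_mem.2 hx))
      · intro hx
        have h0 : (Ψ ≫ G.bcB G.incl ≫ π) x = 0 := h.trans (Ideal.Quotient.eq_zero_iff_mem.2 hx)
        exact (Ideal.Quotient.eq_zero_iff_mem.1 h0 : G.bcB G.incl (Ψ x) ∈ r'.asIdeal))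
  refine ⟨PrimeSpectrum.comap (G.bcB G.incl).hom r', ?_⟩
  have hτΨ : (G.bc G.incl).τ ≫ Ψ = (G.isPushout_bcA G.incl).desc G.τ G.σ G.incl_τ := by
    apply (G.isPushout_bcA G.incl).hom_ext
    · rw [IsPushout.inl_desc, bcA_τ_assoc, Ψ₁, Category.comp_id]
    · rw [IsPushout.inr_desc, bcR_τ_assoc, Ψ₂]
  rw [← hτr, ← hτΨ, CommRingCat.hom_comp, PrimeSpectrum.comap_comp_apply, hr]

end AffRel

end Groth.Agent.H13Grpd
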