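import Groth.Agent.H13Grpd.AffOrbit

/-!
The norm of a scalar on a finite projective module, and norms of invariant functions after base change.
-/

universe u v w

open CategoryTheory Polynomial

namespace Groth.Agent.H13Grpd

/-- The determinant of a scalar is governed by orthogonal idempotents indexed by the rank. -/
theorem exists_rank_idempotents (R : Type u) [CommRing R] (M : Type v) [AddCommGroup M] [Module R M]
    [Module.Finite R M] [Module.Projective R M] :
    ∃ (N : ℕ) (e : ℕ → R), (∀ k l, e k * e l = if k = l then e k else 0) ∧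
      (∑ k ∈ Finset.range (N + 1), e k = 1) ∧ (∀ (ψ : M →ₗ[R] R) (m : M), ψ m = 1 → e 0 = 0) ∧
      ∀ {R' : Type w} [CommRing R'] (φ : R →+* R') {M' : Type w} [AddCommGroup M'] [Module R' M']
        [Module.Finite R' M'] [Module.Projective R' M'] (f : M →ₛₗ[φ] M'), IsBC φ f →
        ∀ c : R', nrm (c • (1 : M' →ₗ[R'] M')) = ∑ k ∈ Finset.range (N + 1), φ (e k) * c ^ k := by
  classical
  obtain ⟨n, ι, π, h⟩ := exists_pres R M
  let P : Matrix (Fin n) (Fin n) R := LinearMap.toMatrix' (ι ∘ₗ π)
  have hP : P * P = P := by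
    rw [← LinearMap.toMatrix'_comp, LinearMap.comp_assoc, ← LinearMap.comp_assoc π ι π, h, LinearMap.id_comp]
  let Q : Matrix (Fin n) (Fin n) R[X] := (1 - P.map C) + (X : R[X]) • P.map C
  have hmul : ∀ {T : Type u} [CommRing T] (φ : R →+* T) (a b : T),
      Q.det.eval₂ φ a * Q.det.eval₂ φ b = Q.det.eval₂ φ (a * b) := fun {T} _ φ a b => by
    have e : ∀ c, Q.det.eval₂ φ c = ((1 - P.map φ) + c • P.map φ).det := fun c => by
      rw [← Polynomial.coe_eval₂RingHom, RingHom.map_det]
      congr 1
      ext i j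
      simp [Q, Matrix.one_apply, apply_ite]
      ring
    rw [e, e, e, ← Matrix.det_mul]
    congr 1
    have hp : P.map φ * P.map φ = P.map φ := by rw [← Matrix.map_mul, hP]
    simp only [add_mul, mul_add, sub_mul, mul_sub, one_mul, mul_one, Matrix.smul_mul, Matrix.mul_smul, hp,
      smul_smul, sub_self, zero_add]
    rw [mul_comm b a]
    abel
  have hnrm : ∀ c : R, nrm (c • (1 : M →ₗ[R] M)) = Q.det.eval₂ (RingHom.id R) c := fun c => by
    rw [← Polynomial.coe_eval₂RingHom, RingHom.map_det, nrm_eq h, presDet, ← LinearMap.det_toMatrix']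
    congr 1
    rw [show ι ∘ₗ (c • (1 : M →ₗ[R] M) - 1) ∘ₗ π = (c - 1) • (ι ∘ₗ π) from
      LinearMap.ext fun x => by simp [sub_smul], map_add, LinearMap.toMatrix'_one, map_smul]
    ext i j
    simp [Q, P, Matrix.one_apply, apply_ite]
    ring
  refine ⟨Q.det.natDegree, Q.det.coeff, fun k l => ?_, ?_, fun ψ m hm => ?_, ?_⟩
  · have hC : ∀ z : R[X], Q.det.eval₂ (C.comp C) (C z) = C (Q.det.eval₂ C z) := fun z =>
      (Polynomial.hom_eval₂ Q.det C C z).symm
    have hX : ∀ z : R[X], Q.det.eval₂ (C.comp C) (C z * X) = (Q.det.map C).comp (C z * X) := fun z => by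
      rw [Polynomial.comp, Polynomial.eval₂_map]
    have h1 := hmul (C.comp C : R →+* R[X][X]) (C X) X
    rw [hC, hX, Polynomial.eval₂_C_X,
      show Q.det.eval₂ (C.comp C) X = Q.det.map C from Polynomial.eval₂_map (p := Q.det) C C X ▸
        Polynomial.eval₂_C_X] at h1
    have h2 := congrArg (fun z : R[X][X] => (z.coeff l).coeff k) h1
    simp only [Polynomial.coeff_C_mul, Polynomial.comp_C_mul_X_coeff, Polynomial.coeff_map] at h2
    simp only [Polynomial.coeff_mul_C, Polynomial.coeff_X_pow] at h2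
    rw [h2]
    split_ifs with e <;> simp [e]
  · have h1 := hnrm 1
    rw [one_smul, nrm_one, Polynomial.eval₂_eq_sum_range] at h1
    simpa using h1.symm
  · have h0 := hnrm 0
    rw [zero_smul, nrm_eq_zero_of_functional _ ψ (fun _ => by simp) hm, Polynomial.eval₂_at_zero] at h0
    simpa using h0.symm
  · intro R' _ φ M' _ _ _ _ f hf c
    obtain ⟨ι', π', h', hι, hπ⟩ := hf.exists_pres' h
    rw [← show Q.det.eval₂ φ c = _ from Polynomial.eval₂_eq_sum_range φ c, ← Polynomial.coe_eval₂RingHom,
      RingHom.map_det, nrm_eq h', presDet, ← LinearMap.det_toMatrix']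
    congr 1
    rw [show ι' ∘ₗ (c • (1 : M' →ₗ[R'] M') - 1) ∘ₗ π' = (c - 1) • (ι' ∘ₗ π') from
      LinearMap.ext fun x => by simp [sub_smul], map_add, LinearMap.toMatrix'_one, map_smul]
    ext i j
    have he : LinearMap.toMatrix' (ι' ∘ₗ π') i j = φ (P i j) := by
      simp only [LinearMap.toMatrix'_apply, LinearMap.comp_apply, P]
      rw [hπ j, hι]
    simp [Q, he, Matrix.one_apply, apply_ite]
    ring

namespace AffRel

variable (G : AffRel.{u})

/-- The norm of an invariant function after base change is a universal polynomial in it. -/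
theorem exists_norm_bc_eq : ∃ (N : ℕ) (e : ℕ → G.A), (∀ k l, e k * e l = if k = l then e k else 0) ∧
    (∑ k ∈ Finset.range (N + 1), e k = 1) ∧ e 0 = 0 ∧
    ∀ {D : CommRingCat.{u}} (d : CommRingCat.of G.invariants ⟶ D) (f : (G.bc d).A),
      (G.bc d).σ f = (G.bc d).τ f →
      (∑ k ∈ Finset.range (N + 1), G.bcA d (e k) * f ^ k) ∈ (G.bcR d).hom.range := by
  letI := G.algσ
  have := G.projective.1
  have := G.projective.2.1
  obtain ⟨N, e, h1, h2, h3, h4⟩ := exists_rank_idempotents G.A G.B
  let ψ : G.B →ₗ[G.A] G.A :=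
    { toFun := G.ε
      map_add' := map_add G.ε.hom
      map_smul' := fun a b => by
        show G.ε (G.σ a * b) = a * G.ε b
        rw [map_mul, show G.ε (G.σ a) = a from congr($(G.εσ) a)] }
  refine ⟨N, e, h1, h2, h3 ψ 1 (map_one G.ε.hom), fun {D} d f hf => ?_⟩
  letI := (G.bc d).algσ
  have := (G.bc d).projective.1
  have := (G.bc d).projective.2.1
  rw [← h4 (G.bcA d).hom (semiHom (G.isPushout_bc_σ d).w) (isBC_of_isPushout (G.isPushout_bc_σ d)) f]
  have hm : (G.bc d).mulτ f = f • 1 := LinearMap.ext fun b => by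
    show (G.bc d).τ f * b = (G.bc d).σ f * b
    rw [hf]
  have := G.norm_bc_mem d f
  rwa [AffRel.norm, hm] at this

end AffRel

end Groth.Agent.H13Grpd
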