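import Groth.Agent.H13Grpd.NormProj
import Mathlib.Algebra.Category.Ring.Constructions
import Mathlib.RingTheory.LocalRing.ResidueField.Fiber
import Mathlib.RingTheory.RingHom.FinitePresentation
import Mathlib.RingTheory.RingHom.Flat
import Mathlib.RingTheory.RingHom.Finite
import Mathlib.RingTheory.Ideal.GoingUp
import Mathlib.RingTheory.Flat.Rank
import Mathlib.RingTheory.Flat.EquationalCriterion
import Mathlib.RingTheory.Finiteness.ModuleFinitePresentation
import Mathlib.RingTheory.QuasiFinite.Basic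

/-!
Finite locally free groupoids on affine schemes, in rings: norms, invariants, integrality, orbits.
-/

universe u

open CategoryTheory CategoryTheory.Limits TensorProduct

namespace Groth.Agent.H13Grpd

/-- The ring data of a finite locally free groupoid of affine schemes. -/
structure AffRel where
  A : CommRingCat.{u}
  B : CommRingCat.{u}
  B₂ : CommRingCat.{u}
  σ : A ⟶ B
  τ : A ⟶ B
  ε : B ⟶ A
  inv : B ⟶ B
  p₁ : B ⟶ B₂
  p₂ : B ⟶ B₂
  c : B ⟶ B₂
  εσ : σ ≫ ε = 𝟙 A
  ετ : τ ≫ ε = 𝟙 A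
  invσ : σ ≫ inv = τ
  invτ : τ ≫ inv = σ
  sq₁ : IsPushout σ τ p₁ p₂
  sq₂ : IsPushout σ σ c p₂
  cτ : τ ≫ c = τ ≫ p₁
  finite : σ.hom.Finite
  flat : σ.hom.Flat
  fp : σ.hom.FinitePresentation

namespace AffRel

variable (G : AffRel.{u})

/-- The invariant subring. -/
def invariants : Subring G.A := RingHom.eqLocus G.σ.hom G.τ.hom

theorem mem_invariants {a : G.A} : a ∈ G.invariants ↔ G.σ a = G.τ a := Iff.rfl

/-- `B` as an `A`-algebra through the source. -/
@[reducible] def algσ : Algebra G.A G.B := G.σ.hom.toAlgebra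

/-- `B₂` as an algebra through the second projection. -/
@[reducible] def algp₂ : Algebra G.B G.B₂ := G.p₂.hom.toAlgebra

theorem projective : letI := G.algσ; Module.Projective G.A G.B ∧ Module.Finite G.A G.B ∧
    Module.Flat G.A G.B ∧ Module.FinitePresentation G.A G.B := by
  letI := G.algσ
  have : Module.Finite G.A G.B := G.finite
  have : Module.Flat G.A G.B := G.flat
  have : Algebra.FinitePresentation G.A G.B := G.fp
  have : Module.FinitePresentation G.A G.B := Module.FinitePresentation.of_finite_of_finitePresentation G.A G.B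
  exact ⟨Module.Flat.projective_of_finitePresentation, ‹_›, ‹_›, ‹_›⟩

/-- A semilinear view of a ring map in a commutative square. -/
def semiHom {A B A' B' : CommRingCat.{u}} {σ : A ⟶ B} {φ : A ⟶ A'} {f : B ⟶ B'} {σ' : A' ⟶ B'}
    (w : σ ≫ f = φ ≫ σ') :
    letI := σ.hom.toAlgebra; letI := σ'.hom.toAlgebra
    B →ₛₗ[φ.hom] B' :=
  letI := σ.hom.toAlgebra
  letI := σ'.hom.toAlgebra
  { toFun := f
    map_add' := map_add f.hom
    map_smul' := fun r b => (map_mul f.hom _ _).trans (congrArg (· * f b) congr($w r)) }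

theorem isBC_of_isPushout {A B A' B' : CommRingCat.{u}} {σ : A ⟶ B} {φ : A ⟶ A'} {f : B ⟶ B'} {σ' : A' ⟶ B'}
    (h : IsPushout σ φ f σ') :
    letI := σ.hom.toAlgebra; letI := σ'.hom.toAlgebra
    IsBC φ.hom (semiHom h.w) := by
  algebraize [φ.hom, f.hom]
  letI := σ.hom.toAlgebra
  letI := σ'.hom.toAlgebra
  letI : Algebra A B' := (σ ≫ f).hom.toAlgebra
  have : IsScalarTower A B B' := IsScalarTower.of_algebraMap_eq fun _ => rfl
  have : IsScalarTower A A' B' := IsScalarTower.of_algebraMap_eq fun x => congr($(h.w) x)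
  have hp : Algebra.IsPushout A B A' B' := CommRingCat.isPushout_iff_isPushout.1 h
  have hb := hp.symm.out
  refine ⟨eq_top_iff.2 fun x _ => ?_, fun g => ⟨hb.lift ((Algebra.linearMap A A').comp g), fun m => ?_⟩⟩
  · induction x using hb.inductionOn with
    | zero => exact zero_mem _
    | tmul m => exact Submodule.subset_span ⟨m, rfl⟩
    | smul r n hn => exact Submodule.smul_mem _ r (hn trivial)
    | add x y hx hy => exact add_mem (hx trivial) (hy trivial)
  · exact hb.lift_eq _ m

/-- Multiplication by a target function. -/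
noncomputable def mulτ (f : G.A) : letI := G.algσ; G.B →ₗ[G.A] G.B :=
  letI := G.algσ
  LinearMap.mulLeft G.A (G.τ f)

/-- The norm along the source of a target function. -/
noncomputable def norm (f : G.A) : G.A :=
  letI := G.algσ
  haveI := G.projective.1
  haveI := G.projective.2.1
  nrm (G.mulτ f)

theorem isBC₁ : letI := G.algσ; letI := G.algp₂; IsBC G.τ.hom (semiHom G.sq₁.w) :=
  isBC_of_isPushout G.sq₁

theorem isBC₂ : letI := G.algσ; letI := G.algp₂; IsBC G.σ.hom (semiHom G.sq₂.w) :=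
  isBC_of_isPushout G.sq₂

theorem norm_mem (f : G.A) : G.norm f ∈ G.invariants := by
  letI := G.algσ
  letI := G.algp₂
  have := G.projective.1
  have := G.projective.2.1
  have := G.isBC₁.finite
  have := G.isBC₁.projective
  let L' : G.B₂ →ₗ[G.B] G.B₂ := LinearMap.mulLeft G.B (G.p₁ (G.τ f))
  have h1 := nrm_baseChange G.isBC₁ (G.mulτ f) L' fun m => (map_mul G.p₁.hom (G.τ f) m).symm
  have h2 := nrm_baseChange G.isBC₂ (G.mulτ f) L' fun m => by
    refine Eq.trans ?_ (map_mul G.c.hom (G.τ f) m).symm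
    show G.p₁ (G.τ f) * G.c m = G.c (G.τ f) * G.c m
    rw [show G.c (G.τ f) = G.p₁ (G.τ f) from congr($(G.cτ) f)]
  exact (G.mem_invariants).2 (h2.symm.trans h1)

/-- The inclusion of invariants. -/
noncomputable def incl : CommRingCat.of G.invariants ⟶ G.A := CommRingCat.ofHom G.invariants.subtype

theorem isIntegral : G.incl.hom.IsIntegral := fun f => by
  letI := G.algσ
  letI := G.algp₂
  have := G.projective.1
  have := G.projective.2.1
  obtain ⟨n, ι, π, h⟩ := exists_pres G.A G.B
  let P := (LinearMap.toMatrix' (ι ∘ₗ G.mulτ f ∘ₗ π)).charpoly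
  let L' : G.B₂ →ₗ[G.B] G.B₂ := LinearMap.mulLeft G.B (G.p₁ (G.τ f))
  have hc : ∀ m, L' (semiHom G.sq₂.w m) = semiHom G.sq₂.w (G.mulτ f m) := fun m => by
    refine Eq.trans ?_ (map_mul G.c.hom (G.τ f) m).symm
    show G.p₁ (G.τ f) * G.c m = G.c (G.τ f) * G.c m
    rw [show G.c (G.τ f) = G.p₁ (G.τ f) from congr($(G.cτ) f)]
  have := G.isBC₁.finite
  have := G.isBC₁.projective
  obtain ⟨ι₁, π₁, h₁, e₁⟩ := charpoly_presMat_baseChange G.isBC₁ h (G.mulτ f) L'
    fun m => (map_mul G.p₁.hom (G.τ f) m).symm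
  obtain ⟨ι₂, π₂, h₂, e₂⟩ := charpoly_presMat_baseChange G.isBC₂ h (G.mulτ f) L' hc
  have einv : P.map G.τ.hom = P.map G.σ.hom := by
    rw [e₁, e₂]; exact charpoly_presMat_eq h₁ h₂ L'
  -- the composition of the two maps to `B`
  let d : G.B₂ ⟶ G.B := G.sq₂.desc (𝟙 G.B) (𝟙 G.B) rfl
  have hd₁ : ∀ b, d (G.c b) = b := fun b => congr($(G.sq₂.inl_desc (𝟙 G.B) (𝟙 G.B) rfl) b)
  have hd₂ : ∀ b, d (G.p₂ b) = b := fun b => congr($(G.sq₂.inr_desc (𝟙 G.B) (𝟙 G.B) rfl) b)
  let φ : G.B₂ →ₗ[G.B] G.B :=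
    { toFun := d
      map_add' := map_add d.hom
      map_smul' := fun r m => (map_mul d.hom _ _).trans (congrArg (· * d m) (hd₂ r)) }
  have h0 := eval_charpoly_presMat h₂ L' (G.τ f) φ (fun m => (map_mul d.hom _ m).trans
    (congrArg (· * d m) ((congrArg d congr($(G.cτ) f)).symm.trans (hd₁ _)))) (m₀ := 1) (map_one d.hom)
  rw [← e₂, ← einv, Polynomial.eval_map, Polynomial.eval₂_hom] at h0
  have h1 : P.eval f = 0 := by
    have := congrArg G.ε h0
    rwa [show G.ε (G.τ (P.eval f)) = P.eval f from congr($(G.ετ) _), map_zero] at this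
  have hcoef : ↑P.coeffs ⊆ (G.invariants : Set G.A) := fun a ha => by
    obtain ⟨i, -, rfl⟩ := Polynomial.mem_coeffs_iff.1 ha
    refine (G.mem_invariants).2 ?_
    have := congrArg (Polynomial.coeff · i) einv
    simpa [Polynomial.coeff_map] using this.symm
  refine ⟨P.toSubring G.invariants hcoef, (Polynomial.monic_toSubring P G.invariants hcoef).2
    (Matrix.charpoly_monic _), ?_⟩
  rw [show G.incl.hom = G.invariants.subtype from rfl, Polynomial.eval₂_eq_eval_map, Polynomial.map_toSubring]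
  exact h1

/-- The orbit criterion for the norm. -/
theorem norm_notMem_iff (f : G.A) (q : PrimeSpectrum G.A) :
    G.norm f ∉ q.asIdeal ↔ ∀ r : PrimeSpectrum G.B, PrimeSpectrum.comap G.σ.hom r = q → G.τ f ∉ r.asIdeal := by
  letI := G.algσ
  have := G.projective.1
  have := G.projective.2.1
  let κ := q.asIdeal.ResidueField
  have h1 := nrm_baseChange (isBC_tensor κ) (G.mulτ f)
    ((G.mulτ f).baseChange κ) fun m => rfl
  rw [show G.norm f = nrm (G.mulτ f) from rfl, ← Ideal.algebraMap_residueField_eq_zero, ← h1, ← ne_eq,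
    ← isUnit_iff_ne_zero, isUnit_nrm_iff,
    show ⇑((G.mulτ f).baseChange κ) = fun x : q.asIdeal.Fiber G.B => ((1 : κ) ⊗ₜ[G.A] G.τ f) * x from ?_,
    ← IsUnit.isUnit_iff_mulLeft_bijective]
  · constructor
    · rintro hu r hr hf
      let P := PrimeSpectrum.preimageEquivFiber G.A G.B q ⟨r, hr⟩
      have hP : ((1 : κ) ⊗ₜ[G.A] G.τ f) ∈ P.asIdeal := by
        have := (PrimeSpectrum.preimageEquivFiber G.A G.B q).symm_apply_apply ⟨r, hr⟩
        have := congrArg (fun x => x.1.asIdeal) this
        simp only [PrimeSpectrum.preimageEquivFiber_symm_apply_coe, PrimeSpectrum.comap_asIdeal] at this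
        rw [← this] at hf
        exact hf
      exact P.2.ne_top (Ideal.eq_top_of_isUnit_mem _ hP hu)
    · intro h
      by_contra hu
      obtain ⟨m, hm, hmem⟩ := exists_max_ideal_of_mem_nonunits hu
      let r := (PrimeSpectrum.preimageEquivFiber G.A G.B q).symm ⟨m, hm.isPrime⟩
      exact h r.1 r.2 hmem
  · refine congrArg DFunLike.coe (LinearMap.ext fun x => ?_ : (G.mulτ f).baseChange κ = LinearMap.mulLeft κ _)
    induction x using TensorProduct.induction_on with
    | zero => simp
    | tmul a m => simp [mulτ]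
    | add x y hx hy => rw [map_add, map_add, hx, hy]

/-- The points of the groupoid. -/
theorem comap_τ_of_comap_incl {q q' : PrimeSpectrum G.A}
    (h : PrimeSpectrum.comap G.incl.hom q = PrimeSpectrum.comap G.incl.hom q') :
    ∃ r : PrimeSpectrum G.B, PrimeSpectrum.comap G.σ.hom r = q ∧ PrimeSpectrum.comap G.τ.hom r = q' := by
  letI := G.algσ
  have := G.projective.2.1
  by_contra! hne
  have hfin : (PrimeSpectrum.comap (algebraMap G.A G.B) ⁻¹' {q}).Finite :=
    (Algebra.QuasiFinite.finite_comap_preimage_singleton q)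
  letI : Algebra G.invariants G.A := G.incl.hom.toAlgebra
  have : Algebra.IsIntegral G.invariants G.A := ⟨G.isIntegral⟩
  have hτσ : ∀ r : PrimeSpectrum G.B,
      PrimeSpectrum.comap G.incl.hom (PrimeSpectrum.comap G.τ.hom r) =
        PrimeSpectrum.comap G.incl.hom (PrimeSpectrum.comap G.σ.hom r) := fun r => by
    rw [← PrimeSpectrum.comap_comp_apply, ← PrimeSpectrum.comap_comp_apply]
    congr 1
    exact RingHom.ext fun a => a.2.symm
  obtain ⟨f, hfq', hf⟩ : ∃ f ∈ q'.asIdeal, ∀ r ∈ hfin.toFinset, G.τ f ∉ r.asIdeal := by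
    by_contra! hall
    obtain ⟨r, hr, hle⟩ := (Ideal.subset_union_prime (s := hfin.toFinset)
      (f := fun r => r.asIdeal.comap G.τ.hom) (PrimeSpectrum.comap G.ε.hom q) (PrimeSpectrum.comap G.ε.hom q)
      (fun r _ _ _ => inferInstance)).1 fun a ha => by
        obtain ⟨r, hr, h⟩ := hall a ha
        exact Set.mem_biUnion hr h
    have hrσ : PrimeSpectrum.comap G.σ.hom r = q := hfin.mem_toFinset.1 hr
    refine hne r hrσ ?_
    by_contra hne'
    have hlt : q'.asIdeal < r.asIdeal.comap G.τ.hom :=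
      lt_of_le_of_ne hle fun e => hne' (PrimeSpectrum.ext e.symm)
    have hlt2 := Ideal.IsIntegral.comap_lt_comap (R := G.invariants) hlt
    refine hlt2.ne ?_
    have := hτσ r
    rw [hrσ, h] at this
    exact congrArg PrimeSpectrum.asIdeal this.symm
  have h1 : G.norm f ∉ q.asIdeal := (G.norm_notMem_iff f q).2 fun r hr => hf r (hfin.mem_toFinset.2 hr)
  refine h1 ?_
  have h2 : G.norm f ∈ q'.asIdeal := by
    by_contra hn
    refine (G.norm_notMem_iff f q').1 hn (PrimeSpectrum.comap G.ε.hom q') ?_ ?_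
    · rw [← PrimeSpectrum.comap_comp_apply, ← CommRingCat.hom_comp, G.εσ, CommRingCat.hom_id,
        PrimeSpectrum.comap_id]
    · show G.ε (G.τ f) ∈ q'.asIdeal
      rw [show G.ε (G.τ f) = f from congr($(G.ετ) f)]
      exact hfq'
  exact (SetLike.ext_iff.1 (congrArg PrimeSpectrum.asIdeal h) ⟨_, G.norm_mem f⟩).2 h2

theorem injective_incl : Function.Injective G.incl.hom := Subtype.val_injective

end AffRel

end Groth.Agent.H13Grpd
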