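import Groth.Agent.H13Grpd.OfScheme
import Groth.Agent.S7490
import Mathlib.CategoryTheory.Sites.EpiMono

/-!
Quotient sheaves of finite locally free affine equivalence relations.
-/

universe u

open CategoryTheory CategoryTheory.Limits AlgebraicGeometry Opposite

namespace Groth.Agent.H13Grpd

variable {S : Scheme.{u}}

/-- An fppf covering induces an epimorphism of fppf sheaves. -/
theorem epi_repMap {U M : Over S} (q : U ⟶ M) [Flat q.left] [Surjective q.left]
    [LocallyOfFinitePresentation q.left] : Epi (QuotSh.repMap Scheme.fppfPrecoverage q) := by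
  let f : (yoneda.obj U ⋙ uliftFunctor.{u + 1, u}) ⟶ (yoneda.obj M ⋙ uliftFunctor.{u + 1, u}) :=
    Functor.whiskerRight (yoneda.map q) uliftFunctor.{u + 1, u}
  have : Presheaf.IsLocallySurjective (QuotSh.J Scheme.fppfPrecoverage S) f := ⟨fun {T} s => by
    let v : T ⟶ M := s.down
    have : Flat (pullback.snd q.left v.left) := MorphismProperty.pullback_snd _ _ ‹Flat q.left›
    have : Surjective (pullback.snd q.left v.left) := MorphismProperty.pullback_snd _ _ ‹Surjective q.left›
    have : LocallyOfFinitePresentation (pullback.snd q.left v.left) :=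
      MorphismProperty.pullback_snd _ _ ‹LocallyOfFinitePresentation q.left›
    rw [GrothendieckTopology.mem_over_iff]
    refine GrothendieckTopology.superset_covering _ ?_
      (Precoverage.generate_mem_toGrothendieck (pullback.snd q.left v.left).singleton_mem_fppfPrecoverage)
    rw [Sieve.generate_le_iff]
    rintro _ _ ⟨⟩
    rw [Sieve.overEquiv_iff]
    refine ⟨ULift.up (Over.homMk (pullback.fst q.left v.left) ?_), ULift.ext _ _ (Over.OverMorphism.ext ?_)⟩
    · change pullback.fst q.left v.left ≫ U.hom = pullback.snd q.left v.left ≫ T.hom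
      rw [← Over.w q, ← Over.w v, pullback.condition_assoc]
    · exact pullback.condition⟩
  have : Sheaf.IsLocallySurjective (QuotSh.repMap Scheme.fppfPrecoverage q) :=
    (Presheaf.isLocallySurjective_presheafToSheaf_map_iff _ f).2 this
  exact (Sheaf.isLocallySurjective_iff_epi' (Type (u + 1)) _).1 this

/-- The quotient of a finite locally free affine equivalence relation represents the quotient sheaf. -/
theorem isQuotient_toQuot (G : Grpd.GroupoidScheme S) [IsAffine G.U] [IsAffine G.R] [IsFinite G.s] [Flat G.s]
    [LocallyOfFinitePresentation G.s] [Mono G.j] (m : Spec (CommRingCat.of G.invariants) ⟶ S)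
    (h : G.toQuot ≫ m = G.pU) :
    QuotSh.IsQuotient Scheme.fppfPrecoverage (Over.homMk G.s G.s_over : Over.mk G.pR ⟶ Over.mk G.pU)
      (Over.homMk G.t G.t_over : Over.mk G.pR ⟶ Over.mk G.pU)
      (Over.homMk G.toQuot h : Over.mk G.pU ⟶ Over.mk m) := by
  obtain ⟨⟨h1, h2, h3⟩, h4, sq⟩ := finLocFree_and_isPullback_toQuot G
  let q : Over.mk G.pU ⟶ Over.mk m := Over.homMk G.toQuot h
  have : Flat q.left := h2
  have : Surjective q.left := h4
  have : LocallyOfFinitePresentation q.left := h3
  refine Groth.Agent.S7490.result _ _ _ q (Over.OverMorphism.ext sq.w.symm) sq.w (epi_repMap q) ?_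
  let e := (Over.homMk (pullback.lift G.t G.s sq.w) ((pullback.lift_fst_assoc G.t G.s sq.w G.pU).trans G.t_over) :
    Over.mk G.pR ⟶ Over.mk (pullback.fst G.toQuot G.toQuot ≫ G.pU))
  have hi : IsIso (pullback.lift G.t G.s sq.w) := by
    rw [show pullback.lift G.t G.s sq.w = sq.isoPullback.hom by
      exact pullback.hom_ext ((pullback.lift_fst _ _ _).trans sq.isoPullback_hom_fst.symm)
        ((pullback.lift_snd _ _ _).trans sq.isoPullback_hom_snd.symm)]
    infer_instance
  have : IsIso ((Over.forget S).map e) := hi
  have : IsIso e := isIso_of_reflects_iso e (Over.forget S)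
  show Epi (QuotSh.repMap Scheme.fppfPrecoverage e)
  infer_instance

end Groth.Agent.H13Grpd
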