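import Groth.Agent.H13Grpd.InvMap
import Groth.Agent.H13Grpd.Quot

/-!
The map to the spectrum of the invariants of a finite locally free affine groupoid is an invariant map.
-/

universe u

open CategoryTheory CategoryTheory.Limits AlgebraicGeometry Topology

namespace Groth.Agent.H13Grpd

variable {S : Scheme.{u}} (G : Grpd.GroupoidScheme S) [IsAffine G.U] [IsAffine G.R] [IsFinite G.s] [Flat G.s]
  [LocallyOfFinitePresentation G.s]

omit [IsFinite G.s] [Flat G.s] [LocallyOfFinitePresentation G.s] [IsAffine G.R] in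
theorem toQuot_appTop :
    G.toQuot.appTop = (Scheme.ΓSpecIso _).hom ≫ CommRingCat.ofHom G.invariants.subtype := by
  simp [Grpd.GroupoidScheme.toQuot]

theorem isIntegralHom_toQuot : IsIntegralHom G.toQuot := by
  have : IsIntegralHom (Spec.map (CommRingCat.ofHom G.invariants.subtype)) :=
    (IsIntegralHom.SpecMap_iff).2 (affRel G).isIntegral
  rw [toQuot_eq]
  infer_instance

theorem isInvMap_toQuot : IsInvMap G.s G.t G.toQuot := by
  let ι := CommRingCat.ofHom G.invariants.subtype
  have hw : G.t ≫ G.toQuot = G.s ≫ G.toQuot := ext_of_isAffine (by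
    rw [Scheme.Hom.comp_appTop, Scheme.Hom.comp_appTop, toQuot_appTop, Category.assoc, Category.assoc]
    congr 1
    ext a
    exact a.2.symm)
  have hsurj : Function.Surjective G.toQuot := by
    rw [toQuot_eq]
    letI : Algebra G.invariants Γ(G.U, ⊤) := G.invariants.subtype.toAlgebra
    have : Algebra.IsIntegral G.invariants Γ(G.U, ⊤) := ⟨(affRel G).isIntegral⟩
    have : FaithfulSMul G.invariants Γ(G.U, ⊤) := (faithfulSMul_iff_algebraMap_injective _ _).2 Subtype.val_injective
    have : Surjective (Spec.map ι) := ⟨Algebra.IsIntegral.comap_surjective G.invariants Γ(G.U, ⊤)⟩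
    exact (inferInstance : Surjective (G.U.isoSpec.hom ≫ Spec.map ι)).1
  have horbit : ∀ x y : G.U, G.toQuot x = G.toQuot y → ∃ r : G.R, G.t r = x ∧ G.s r = y := by
    intro x y hxy
    obtain ⟨r, hrs, hrt⟩ := (affRel G).comap_τ_of_comap_incl (q := G.U.isoSpec.hom y) (q' := G.U.isoSpec.hom x) (by
      rw [toQuot_eq, Scheme.Hom.comp_apply, Scheme.Hom.comp_apply] at hxy
      exact hxy.symm)
    have nat : ∀ (f : G.R ⟶ G.U) (v : G.U), PrimeSpectrum.comap f.appTop.hom r = G.U.isoSpec.hom v →
        f (G.R.isoSpec.inv r) = v := fun f v h => by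
      rw [← Scheme.Hom.comp_apply, ← Scheme.isoSpec_inv_naturality, Scheme.Hom.comp_apply]
      refine (congrArg G.U.isoSpec.inv (show Spec.map f.appTop r = G.U.isoSpec.hom v from h)).trans ?_
      rw [← Scheme.Hom.comp_apply, Iso.hom_inv_id]; rfl
    exact ⟨G.R.isoSpec.inv r, nat G.t x hrt, nat G.s y hrs⟩
  have hclosed : IsClosedMap G.toQuot := by
    have := isIntegralHom_toQuot G
    exact G.toQuot.isClosedMap
  have hopen : IsOpenMap G.toQuot := fun O hO => by
    have hOs : IsOpen (G.s '' (G.t ⁻¹' O)) := G.s.isOpenMap _ (hO.preimage G.t.continuous)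
    have he : G.toQuot '' O = (G.toQuot '' (G.s '' (G.t ⁻¹' O))ᶜ)ᶜ := by
      ext y
      constructor
      · rintro ⟨x, hx, rfl⟩ ⟨x', hx', e⟩
        obtain ⟨r, hrt, hrs⟩ := horbit x x' e.symm
        exact hx' ⟨r, by rw [Set.mem_preimage, hrt]; exact hx, hrs⟩
      · intro hy
        obtain ⟨x, rfl⟩ := hsurj y
        obtain ⟨r, hr, rfl⟩ : x ∈ G.s '' (G.t ⁻¹' O) := by_contra fun hn => hy ⟨x, hn, rfl⟩
        exact ⟨G.t r, hr, by rw [← Scheme.Hom.comp_apply, hw, Scheme.Hom.comp_apply]⟩
    rw [he]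
    exact (hclosed _ hOs.isClosed_compl).isOpen_compl
  refine ⟨hw, hsurj, horbit, hopen, ?_, fun a => ?_⟩
  · rw [toQuot_appTop]
    exact Subtype.val_injective.comp (ConcreteCategory.bijective_of_isIso (Scheme.ΓSpecIso _).hom).injective
  · rw [toQuot_appTop]
    constructor
    · intro h
      let b : (CommRingCat.of G.invariants : CommRingCat) := (⟨a, h⟩ : G.invariants)
      exact ⟨(Scheme.ΓSpecIso _).inv b, congrArg Subtype.val ((Scheme.ΓSpecIso _).inv_hom_id_apply b)⟩
    · rintro ⟨b, rfl⟩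
      exact ((Scheme.ΓSpecIso (CommRingCat.of G.invariants)).hom b).2

end Groth.Agent.H13Grpd
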