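import Groth.Agent.H13Grpd.OfScheme
import Groth.Agent.H13Grpd.AffOrbit
import Groth.Agent.H13Grpd.InvariantAffine

/-!
A map of affine schemes whose functions are the invariants of a groupoid, with orbits as fibres, is a
coequalizer on every open.
-/

universe u

open CategoryTheory CategoryTheory.Limits AlgebraicGeometry TopologicalSpace Topology

namespace Groth.Agent.H13Grpd

/-- Localization of the invariants. -/
theorem away_invariants {C A B Cc Ac Bc : CommRingCat.{u}} {j : C ⟶ A} {σ τ : A ⟶ B} {rC : C ⟶ Cc}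
    {rA : A ⟶ Ac} {rB : B ⟶ Bc} {φ : Cc ⟶ Ac} {σc τc : Ac ⟶ Bc} (hj : Function.Injective j.hom)
    (hrange : ∀ a, σ a = τ a ↔ a ∈ Set.range j.hom) (hφ : rC ≫ φ = j ≫ rA) (hσ : rA ≫ σc = σ ≫ rB)
    (hτ : rA ≫ τc = τ ≫ rB) (c : C) (hC : letI := rC.hom.toAlgebra; IsLocalization.Away c Cc)
    (hA : letI := rA.hom.toAlgebra; IsLocalization.Away (j c) Ac)
    (hB : letI := rB.hom.toAlgebra; IsLocalization.Away (σ (j c)) Bc) :
    Function.Injective φ.hom ∧ ∀ f, σc f = τc f ↔ f ∈ Set.range φ.hom := by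
  letI := rC.hom.toAlgebra
  letI := rA.hom.toAlgebra
  letI := rB.hom.toAlgebra
  have hjc : ∀ c, σ (j c) = τ (j c) := fun c => (hrange _).2 ⟨c, rfl⟩
  have hu : IsUnit (rA (j c)) := IsLocalization.Away.algebraMap_isUnit (S := Ac) (j c)
  constructor
  · rw [injective_iff_map_eq_zero]
    intro x hx
    obtain ⟨⟨a, ⟨_, n, rfl⟩⟩, ha⟩ := IsLocalization.surj (Submonoid.powers c) x
    have h1 : rA (j a) = 0 := by
      rw [show rA (j a) = φ (rC a) from congr($(hφ.symm) a), show (rC a : Cc) = x * rC (c ^ n) from ha.symm,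
        map_mul]
      exact mul_eq_zero_of_left hx _
    obtain ⟨⟨_, k, rfl⟩, hk⟩ := (IsLocalization.map_eq_zero_iff (Submonoid.powers (j c)) Ac (j a)).1 h1
    have hk' : c ^ k * a = 0 := hj (by rw [map_mul, map_pow, map_zero]; exact hk)
    have h2 : rC a = 0 := (IsLocalization.map_eq_zero_iff (Submonoid.powers c) Cc a).2 ⟨⟨_, k, rfl⟩, hk'⟩
    have h3 : x * rC (c ^ n) = 0 := ha.trans h2
    exact (IsLocalization.map_units Cc (⟨c ^ n, n, rfl⟩ : Submonoid.powers c)).mul_left_eq_zero.1 h3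
  · intro f
    constructor
    · intro hf
      obtain ⟨⟨a, ⟨_, n, rfl⟩⟩, ha⟩ := IsLocalization.surj (Submonoid.powers (j c)) f
      have h1 : rB (σ a) = rB (τ a) := by
        rw [show rB (σ a) = σc (rA a) from congr($(hσ.symm) a), show rB (τ a) = τc (rA a) from congr($(hτ.symm) a),
          show (rA a : Ac) = f * rA (j c ^ n) from ha.symm, map_mul, map_mul, hf,
          show σc (rA (j c ^ n)) = τc (rA (j c ^ n)) from ?_]
        rw [show σc (rA (j c ^ n)) = rB (σ (j c ^ n)) from congr($hσ _),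
          show τc (rA (j c ^ n)) = rB (τ (j c ^ n)) from congr($hτ _)]
        simp [map_pow, hjc]
      obtain ⟨⟨_, k, rfl⟩, hk⟩ := (IsLocalization.eq_iff_exists (Submonoid.powers (σ (j c))) Bc).1 h1
      obtain ⟨c', hc'⟩ := (hrange (j c ^ k * a)).1 (by
        rw [map_mul, map_mul, map_pow, map_pow, ← hjc c]; exact hk)
      have hcu : IsUnit (rC (c ^ (n + k))) :=
        IsLocalization.map_units Cc (⟨c ^ (n + k), n + k, rfl⟩ : Submonoid.powers c)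
      refine ⟨rC c' * ↑hcu.unit⁻¹, ?_⟩
      have hu' : IsUnit (φ (rC (c ^ (n + k)))) := hcu.map φ.hom
      refine hu'.mul_left_injective ?_
      show φ _ * φ _ = f * φ _
      rw [← map_mul, mul_assoc, IsUnit.val_inv_mul, mul_one,
        show φ (rC c') = rA (j c') from congr($hφ c'), show φ (rC (c ^ (n + k))) = rA (j (c ^ (n + k))) from congr($hφ _),
        hc', map_mul, pow_add, map_mul, map_pow, map_pow, map_pow, map_mul,
        show (rA a : Ac) = f * rA (j c ^ n) from ha.symm, map_pow, map_pow]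
      ring
    · rintro ⟨y, rfl⟩
      obtain ⟨⟨b, ⟨_, n, rfl⟩⟩, hb⟩ := IsLocalization.surj (Submonoid.powers c) y
      have hu' : IsUnit (σc (φ (rC (c ^ n)))) :=
        ((IsLocalization.map_units Cc (⟨c ^ n, n, rfl⟩ : Submonoid.powers c)).map φ.hom).map σc.hom
      have key : ∀ d, σc (φ (rC d)) = τc (φ (rC d)) := fun d => by
        rw [show φ (rC d) = rA (j d) from congr($hφ d), show σc (rA (j d)) = rB (σ (j d)) from congr($hσ _),
          show τc (rA (j d)) = rB (τ (j d)) from congr($hτ _), hjc]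
      refine hu'.mul_left_injective ?_
      show σc (φ y) * _ = τc (φ y) * _
      conv_rhs => rw [key, ← map_mul, ← map_mul]
      rw [← map_mul, ← map_mul, show y * rC (c ^ n) = rC b from hb, key]

theorem morphismRestrict_appTop_topIso {X Y : Scheme.{u}} (f : X ⟶ Y) (D : Y.Opens) :
    (f ∣_ D).appTop ≫ (f ⁻¹ᵁ D).topIso.hom = D.topIso.hom ≫ f.app D := by
  simp [Scheme.Hom.app_eq_appLE]
  exact (f.appLE_map _ _).trans (f.map_appLE _ _).symm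

theorem resLE_appTop_topIso {X Y : Scheme.{u}} (f : X ⟶ Y) (D : Y.Opens) (E : X.Opens) (e : E ≤ f ⁻¹ᵁ D) :
    (f.resLE D E e).appTop ≫ E.topIso.hom = D.topIso.hom ≫ f.appLE D E e := by
  simp [Scheme.Hom.resLE_appLE, Scheme.Hom.app_eq_appLE]
  exact (f.appLE_map _ _).trans (f.map_appLE _ _).symm

variable {R U Y : Scheme.{u}} (s t : R ⟶ U) (q : U ⟶ Y)

/-- A quotient map of affine schemes for a pair of maps. -/
structure IsInvMap : Prop where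
  w : t ≫ q = s ≫ q
  surjective : Function.Surjective q
  orbit : ∀ x y : U, q x = q y → ∃ r : R, t r = x ∧ s r = y
  isOpenMap : IsOpenMap q
  injective_app : Function.Injective q.appTop.hom
  range_app : ∀ a : Γ(U, ⊤), s.appTop a = t.appTop a ↔ a ∈ Set.range q.appTop.hom

variable {s t q}

namespace IsInvMap

variable (h : IsInvMap s t q)
include h

theorem preimage_preimage_eq (O : Y.Opens) : s ⁻¹ᵁ q ⁻¹ᵁ O = t ⁻¹ᵁ q ⁻¹ᵁ O := by
  rw [← Scheme.Hom.comp_preimage, ← Scheme.Hom.comp_preimage, h.w]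

variable [IsAffine U] [IsAffine R] [IsAffine Y]

theorem app_basicOpen (c : Γ(Y, ⊤)) :
    Function.Injective (q.app (Y.basicOpen c)).hom ∧ ∀ f : Γ(U, q ⁻¹ᵁ Y.basicOpen c),
      s.app _ f = t.appLE _ (s ⁻¹ᵁ q ⁻¹ᵁ Y.basicOpen c) (h.preimage_preimage_eq _).le f ↔
        f ∈ Set.range (q.app (Y.basicOpen c)).hom := by
  have hq : q ⁻¹ᵁ Y.basicOpen c = U.basicOpen (q.appTop c) := Scheme.preimage_basicOpen q c
  have hR : s ⁻¹ᵁ q ⁻¹ᵁ Y.basicOpen c = R.basicOpen (s.appTop (q.appTop c)) := by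
    rw [hq]; exact Scheme.preimage_basicOpen s _
  refine away_invariants (j := q.appTop) (σ := s.appTop) (τ := t.appTop)
    (rC := Y.presheaf.map (homOfLE (le_top : Y.basicOpen c ≤ ⊤)).op)
    (rA := U.presheaf.map (homOfLE (le_top : q ⁻¹ᵁ Y.basicOpen c ≤ ⊤)).op)
    (rB := R.presheaf.map (homOfLE (le_top : s ⁻¹ᵁ q ⁻¹ᵁ Y.basicOpen c ≤ ⊤)).op)
    h.injective_app h.range_app ?_ ?_ ?_ c ?_ ?_ ?_
  · exact q.naturality _
  · exact s.naturality _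
  · rw [Scheme.Hom.map_appLE, show t.appTop = t.appLE ⊤ ⊤ le_top from t.app_eq_appLE, Scheme.Hom.appLE_map]
  · exact (isAffineOpen_top Y).isLocalization_of_eq_basicOpen c (homOfLE le_top) rfl
  · exact (isAffineOpen_top U).isLocalization_of_eq_basicOpen (q.appTop c) (homOfLE le_top) hq
  · exact (isAffineOpen_top R).isLocalization_of_eq_basicOpen (s.appTop (q.appTop c)) (homOfLE le_top) hR

theorem hom_ext {O : Y.Opens} {Z : Scheme.{u}} (h₁ h₂ : O.toScheme ⟶ Z)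
    (e : q ∣_ O ≫ h₁ = q ∣_ O ≫ h₂) : h₁ = h₂ := by
  have hcov : ∀ y : O.toScheme, ∃ (c : Γ(Y, ⊤)) (hc : Y.basicOpen c ≤ O),
      y.1 ∈ Y.basicOpen c ∧ Y.homOfLE hc ≫ h₁ = Y.homOfLE hc ≫ h₂ := fun y => by
    obtain ⟨Zk, hZk, hyZ, -⟩ := exists_isAffineOpen_mem_and_subset (U := (⊤ : Z.Opens)) (x := h₁ y) trivial
    obtain ⟨_, ⟨_, ⟨c, rfl⟩, rfl⟩, hyc, hc⟩ := (isBasis_basicOpen Y).exists_subset_of_mem_open
      (show y.1 ∈ (O.ι ''ᵁ (h₁ ⁻¹ᵁ Zk) : Y.Opens) from ⟨y, hyZ, rfl⟩) (O.ι ''ᵁ (h₁ ⁻¹ᵁ Zk)).2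
    have hcO : Y.basicOpen c ≤ O := fun x hx => O.ι_image_le _ (hc hx)
    refine ⟨c, hcO, hyc, ?_⟩
    let D := Y.basicOpen c
    have : IsAffine D.toScheme := (isAffineOpen_top Y).basicOpen c
    have : IsAffine Zk.toScheme := hZk
    have e' : q ∣_ D ≫ Y.homOfLE hcO ≫ h₁ = q ∣_ D ≫ Y.homOfLE hcO ≫ h₂ := by
      rw [morphismRestrict_homOfLE_assoc, morphismRestrict_homOfLE_assoc, e]
    have hqs : Function.Surjective (q ∣_ D) := fun d => by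
      obtain ⟨x, hx⟩ := h.surjective d.1
      exact ⟨⟨x, show q x ∈ D by rw [hx]; exact d.2⟩, Subtype.ext ((morphismRestrict_base_coe q D _).trans hx)⟩
    have hm₁ : Set.range (Y.homOfLE hcO ≫ h₁) ⊆ Zk := by
      rintro _ ⟨d, rfl⟩
      obtain ⟨x, hx, hxd⟩ := hc d.2
      rw [Scheme.Hom.comp_apply, show Y.homOfLE hcO d = x from Subtype.ext
        ((Y.homOfLE_apply hcO d).trans hxd.symm)]
      exact hx
    have hm₂ : Set.range (Y.homOfLE hcO ≫ h₂) ⊆ Zk := by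
      rintro _ ⟨d, rfl⟩
      obtain ⟨x, rfl⟩ := hqs d
      rw [← Scheme.Hom.comp_apply, ← e', Scheme.Hom.comp_apply]
      exact hm₁ ⟨_, rfl⟩
    let k₁ := IsOpenImmersion.lift Zk.ι (Y.homOfLE hcO ≫ h₁) (by rwa [Scheme.Opens.range_ι])
    let k₂ := IsOpenImmersion.lift Zk.ι (Y.homOfLE hcO ≫ h₂) (by rwa [Scheme.Opens.range_ι])
    have hk₁ : k₁ ≫ Zk.ι = Y.homOfLE hcO ≫ h₁ := IsOpenImmersion.lift_fac _ _ _
    have hk₂ : k₂ ≫ Zk.ι = Y.homOfLE hcO ≫ h₂ := IsOpenImmersion.lift_fac _ _ _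
    have hk : q ∣_ D ≫ k₁ = q ∣_ D ≫ k₂ := by
      rw [← cancel_mono Zk.ι, Category.assoc, Category.assoc, hk₁, hk₂, e']
    have : k₁ = k₂ := ext_of_isAffine (by
      have h0 := congr(($hk).appTop)
      rw [Scheme.Hom.comp_appTop, Scheme.Hom.comp_appTop] at h0
      refine CommRingCat.hom_ext (RingHom.ext fun z => ?_)
      have hinj : Function.Injective (q ∣_ D).appTop.hom := fun a b hab =>
        (ConcreteCategory.bijective_of_isIso D.topIso.hom).injective ((h.app_basicOpen c).1 (by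
          rw [← CommRingCat.comp_apply, ← CommRingCat.comp_apply, ← morphismRestrict_appTop_topIso,
            CommRingCat.comp_apply, CommRingCat.comp_apply]
          exact congrArg _ hab))
      exact hinj congr($h0 z))
    rw [← hk₁, this, hk₂]
  choose c hc hyc hEq using hcov
  refine Scheme.Cover.hom_ext (O.toScheme.openCoverOfIsOpenCover (fun y => O.ι ⁻¹ᵁ Y.basicOpen (c y))
    (IsOpenCover.mk (top_le_iff.1 fun y _ => Opens.mem_iSup.2 ⟨y, hyc y⟩))) h₁ h₂ fun y => ?_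
  · let k : (O.ι ⁻¹ᵁ Y.basicOpen (c y)).toScheme ⟶ (Y.basicOpen (c y)).toScheme := O.ι ∣_ _
    have : k ≫ Y.homOfLE (hc y) = (O.ι ⁻¹ᵁ Y.basicOpen (c y)).ι := by
      rw [← cancel_mono O.ι, Category.assoc, Scheme.homOfLE_ι, morphismRestrict_ι]
    show (O.ι ⁻¹ᵁ Y.basicOpen (c y)).ι ≫ h₁ = (O.ι ⁻¹ᵁ Y.basicOpen (c y)).ι ≫ h₂
    rw [← this, Category.assoc, Category.assoc, hEq y]

theorem exists_desc_local {O : Y.Opens} {Z : Scheme.{u}} (g : (q ⁻¹ᵁ O).toScheme ⟶ Z)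
    (hg : t.resLE (q ⁻¹ᵁ O) (s ⁻¹ᵁ q ⁻¹ᵁ O) (h.preimage_preimage_eq O).le ≫ g = s ∣_ (q ⁻¹ᵁ O) ≫ g)
    (y : O.toScheme) :
    ∃ (c : Γ(Y, ⊤)) (hc : Y.basicOpen c ≤ O) (k : (Y.basicOpen c).toScheme ⟶ Z),
      y.1 ∈ Y.basicOpen c ∧ q ∣_ Y.basicOpen c ≫ k = U.homOfLE (Scheme.Hom.preimage_mono q hc) ≫ g := by
  obtain ⟨x₀, hx₀⟩ := h.surjective y.1
  let x : (q ⁻¹ᵁ O).toScheme := ⟨x₀, show q x₀ ∈ O by rw [hx₀]; exact y.2⟩
  obtain ⟨Zk, hZk, hxZ, -⟩ := exists_isAffineOpen_mem_and_subset (U := (⊤ : Z.Opens)) (x := g x) trivial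
  let P : U.Opens := (q ⁻¹ᵁ O).ι ''ᵁ (g ⁻¹ᵁ Zk)
  have hPs : ∀ a b : U, q a = q b → a ∈ P → b ∈ P := fun a b hab ha => by
    obtain ⟨⟨a', ha'⟩, hga, rfl⟩ := ha
    obtain ⟨r, hrt, hrs⟩ := h.orbit b a' hab.symm
    have hrO : r ∈ s ⁻¹ᵁ q ⁻¹ᵁ O := by show s r ∈ q ⁻¹ᵁ O; rw [hrs]; exact ha'
    have hb' : b ∈ q ⁻¹ᵁ O := by show q b ∈ O; rw [← hab]; exact ha'
    refine ⟨⟨b, hb'⟩, ?_, rfl⟩
    show g ⟨b, hb'⟩ ∈ Zk
    have h1 := congr(($hg) ⟨r, hrO⟩)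
    rw [Scheme.Hom.comp_apply, Scheme.Hom.comp_apply] at h1
    have e1 : t.resLE (q ⁻¹ᵁ O) (s ⁻¹ᵁ q ⁻¹ᵁ O) (h.preimage_preimage_eq O).le ⟨r, hrO⟩ = ⟨b, hb'⟩ :=
      Subtype.ext ((Scheme.Hom.coe_resLE_apply t _ ⟨r, hrO⟩).trans hrt)
    have e2 : (s ∣_ (q ⁻¹ᵁ O)) ⟨r, hrO⟩ = ⟨a', ha'⟩ := Subtype.ext ((morphismRestrict_base_coe s _ _).trans hrs)
    rw [e1, e2] at h1
    rw [h1]; exact hga
  let O₁ : Y.Opens := ⟨q '' P, h.isOpenMap _ P.2⟩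
  obtain ⟨_, ⟨_, ⟨c, rfl⟩, rfl⟩, hyc, hc⟩ := (isBasis_basicOpen Y).exists_subset_of_mem_open
    (show y.1 ∈ O₁ from ⟨x₀, ⟨x, hxZ, rfl⟩, hx₀⟩) O₁.2
  let D := Y.basicOpen c
  have hcO : D ≤ O := fun z hz => by
    obtain ⟨p, hp, rfl⟩ := hc hz
    exact (q ⁻¹ᵁ O).ι_image_le _ hp
  have hDP : q ⁻¹ᵁ D ≤ P := fun z hz => by
    obtain ⟨p, hp, hpz⟩ := hc hz
    exact hPs p z hpz hp
  let ιD := U.homOfLE (Scheme.Hom.preimage_mono q hcO)
  have : IsAffine D.toScheme := (isAffineOpen_top Y).basicOpen c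
  have : IsAffine Zk.toScheme := hZk
  have hWa : IsAffineOpen (q ⁻¹ᵁ D) := by
    rw [show q ⁻¹ᵁ D = U.basicOpen (q.appTop c) from Scheme.preimage_basicOpen q c]
    exact (isAffineOpen_top U).basicOpen _
  have : IsAffine (q ⁻¹ᵁ D).toScheme := hWa
  have : IsAffine (s ⁻¹ᵁ q ⁻¹ᵁ D).toScheme := hWa.preimage s
  have hrange : Set.range (ιD ≫ g) ⊆ Zk := by
    rintro _ ⟨z, rfl⟩
    obtain ⟨p, hp, hpz⟩ := hDP z.2
    rw [Scheme.Hom.comp_apply, show ιD z = p from Subtype.ext ((U.homOfLE_apply _ z).trans hpz.symm)]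
    exact hp
  let g' := IsOpenImmersion.lift Zk.ι (ιD ≫ g) (by rwa [Scheme.Opens.range_ι])
  have hg' : g' ≫ Zk.ι = ιD ≫ g := IsOpenImmersion.lift_fac _ _ _
  let t' := t.resLE (q ⁻¹ᵁ D) (s ⁻¹ᵁ q ⁻¹ᵁ D) (h.preimage_preimage_eq D).le
  have hinv : t' ≫ g' = s ∣_ (q ⁻¹ᵁ D) ≫ g' := by
    rw [← cancel_mono Zk.ι, Category.assoc, Category.assoc, hg',
      morphismRestrict_homOfLE_assoc, ← hg, Scheme.Hom.map_resLE_assoc,
      Scheme.Hom.resLE_map_assoc]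
  obtain ⟨hinj, hrng⟩ := h.app_basicOpen c
  let ψ : Γ(Zk.toScheme, ⊤) ⟶ Γ(U, q ⁻¹ᵁ D) := g'.appTop ≫ (q ⁻¹ᵁ D).topIso.hom
  have hψ : ∀ z, ψ z ∈ (q.app D).hom.range := fun z => (hrng _).1 (by
    have h0 := congr(($hinv).appTop)
    rw [Scheme.Hom.comp_appTop, Scheme.Hom.comp_appTop] at h0
    have e1 : t'.appTop ≫ (s ⁻¹ᵁ q ⁻¹ᵁ D).topIso.hom =
        (q ⁻¹ᵁ D).topIso.hom ≫ t.appLE _ _ (h.preimage_preimage_eq D).le := resLE_appTop_topIso t _ _ _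
    have e2 : (s ∣_ (q ⁻¹ᵁ D)).appTop ≫ (s ⁻¹ᵁ q ⁻¹ᵁ D).topIso.hom = (q ⁻¹ᵁ D).topIso.hom ≫ s.app _ :=
      morphismRestrict_appTop_topIso s _
    have h1 := congr(($h0 ≫ (s ⁻¹ᵁ q ⁻¹ᵁ D).topIso.hom) z)
    rw [Category.assoc, Category.assoc, e1, e2] at h1
    exact h1.symm)
  let E := RingEquiv.ofBijective (q.app D).hom.rangeRestrict
    ⟨fun a b h => hinj (congrArg Subtype.val h), RingHom.rangeRestrict_surjective _⟩
  let χ : Γ(Zk.toScheme, ⊤) ⟶ Γ(Y, D) := CommRingCat.ofHom (E.symm.toRingHom.comp (ψ.hom.codRestrict _ hψ))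
  have hχ : χ ≫ q.app D = ψ := by
    ext z
    exact congr(($(E.apply_symm_apply ⟨ψ z, hψ z⟩)).1)
  let k : D.toScheme ⟶ Zk.toScheme :=
    D.toScheme.isoSpec.hom ≫ Spec.map (χ ≫ D.topIso.inv) ≫ Zk.toScheme.isoSpec.inv
  refine ⟨c, hcO, k ≫ Zk.ι, hyc, ?_⟩
  refine ((Category.assoc _ _ _).symm.trans (congrArg (· ≫ Zk.ι) (ext_of_isAffine ?_))).trans hg'
  have hk : k.appTop = χ ≫ D.topIso.inv := by
    apply Spec.map_injective
    rw [← cancel_epi D.toScheme.isoSpec.hom, Scheme.isoSpec_hom_naturality, ← cancel_mono Zk.toScheme.isoSpec.inv]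
    simp [k]
  rw [Scheme.Hom.comp_appTop, hk, ← cancel_mono (q ⁻¹ᵁ D).topIso.hom, Category.assoc,
    morphismRestrict_appTop_topIso, Category.assoc, Iso.inv_hom_id_assoc]
  exact hχ

set_option maxHeartbeats 1000000 in
theorem existsUnique_desc {O : Y.Opens} {Z : Scheme.{u}} (g : (q ⁻¹ᵁ O).toScheme ⟶ Z)
    (hg : t.resLE (q ⁻¹ᵁ O) (s ⁻¹ᵁ q ⁻¹ᵁ O) (h.preimage_preimage_eq O).le ≫ g = s ∣_ (q ⁻¹ᵁ O) ≫ g) :
    ∃! k : O.toScheme ⟶ Z, q ∣_ O ≫ k = g := by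
  choose c hc k hyc hk using h.exists_desc_local g hg
  let cov : O.toScheme.OpenCover := O.toScheme.openCoverOfIsOpenCover (fun y => O.ι ⁻¹ᵁ Y.basicOpen (c y))
    (IsOpenCover.mk (top_le_iff.1 fun y _ => Opens.mem_iSup.2 ⟨y, hyc y⟩))
  let f : ∀ y, (O.ι ⁻¹ᵁ Y.basicOpen (c y)).toScheme ⟶ Z := fun y => O.ι ∣_ _ ≫ k y
  have agree : ∀ y y', Y.homOfLE (inf_le_left : Y.basicOpen (c y) ⊓ Y.basicOpen (c y') ≤ _) ≫ k y =
      Y.homOfLE (inf_le_right : Y.basicOpen (c y) ⊓ Y.basicOpen (c y') ≤ _) ≫ k y' := fun y y' => by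
    apply h.hom_ext
    rw [morphismRestrict_homOfLE_assoc, morphismRestrict_homOfLE_assoc, hk, hk, Scheme.homOfLE_homOfLE_assoc,
      Scheme.homOfLE_homOfLE_assoc]
  suffices hex : ∃ k' : O.toScheme ⟶ Z, q ∣_ O ≫ k' = g by
    obtain ⟨k', hk'⟩ := hex
    exact ⟨k', hk', fun k'' hk'' => h.hom_ext _ _ (hk''.trans hk'.symm)⟩
  refine ⟨cov.glueMorphisms f fun y y' => ?_, ?_⟩
  · let p₁ := pullback.fst (O.ι ⁻¹ᵁ Y.basicOpen (c y)).ι (O.ι ⁻¹ᵁ Y.basicOpen (c y')).ι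
    let p₂ := pullback.snd (O.ι ⁻¹ᵁ Y.basicOpen (c y)).ι (O.ι ⁻¹ᵁ Y.basicOpen (c y')).ι
    show p₁ ≫ f y = p₂ ≫ f y'
    let I := Y.basicOpen (c y) ⊓ Y.basicOpen (c y')
    have hrng : Set.range (p₁ ≫ (O.ι ⁻¹ᵁ Y.basicOpen (c y)).ι ≫ O.ι) ⊆ Set.range I.ι := by
      rw [Scheme.Opens.range_ι]
      rintro _ ⟨z, rfl⟩
      refine ⟨(p₁ z).2, ?_⟩
      rw [reassoc_of% pullback.condition]
      exact (p₂ z).2
    let m := IsOpenImmersion.lift I.ι _ hrng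
    have hm : m ≫ I.ι = p₁ ≫ (O.ι ⁻¹ᵁ Y.basicOpen (c y)).ι ≫ O.ι := IsOpenImmersion.lift_fac _ _ _
    have m₁ : p₁ ≫ O.ι ∣_ Y.basicOpen (c y) = m ≫ Y.homOfLE (inf_le_left : I ≤ _) := by
      rw [← cancel_mono (Y.basicOpen (c y)).ι, Category.assoc, Category.assoc, Scheme.homOfLE_ι, hm,
        morphismRestrict_ι]
    have m₂ : p₂ ≫ O.ι ∣_ Y.basicOpen (c y') = m ≫ Y.homOfLE (inf_le_right : I ≤ _) := by
      rw [← cancel_mono (Y.basicOpen (c y')).ι, Category.assoc, Category.assoc, Scheme.homOfLE_ι, hm,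
        morphismRestrict_ι, reassoc_of% pullback.condition]
    simp only [f]
    rw [reassoc_of% m₁, reassoc_of% m₂, agree]
  · refine ((q ⁻¹ᵁ O).toScheme.openCoverOfIsOpenCover (fun y => (q ⁻¹ᵁ O).ι ⁻¹ᵁ q ⁻¹ᵁ Y.basicOpen (c y))
      (IsOpenCover.mk (top_le_iff.1 fun x _ => Opens.mem_iSup.2 ⟨⟨q x.1, x.2⟩, hyc ⟨q x.1, x.2⟩⟩))).hom_ext _ _ fun y => ?_
    let V := (q ⁻¹ᵁ O).ι ⁻¹ᵁ q ⁻¹ᵁ Y.basicOpen (c y)
    show V.ι ≫ q ∣_ O ≫ _ = V.ι ≫ g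
    let W := O.ι ⁻¹ᵁ Y.basicOpen (c y)
    let m : V.toScheme ⟶ (q ⁻¹ᵁ Y.basicOpen (c y)).toScheme := (q ⁻¹ᵁ O).ι ∣_ _
    have hrng : Set.range (V.ι ≫ q ∣_ O) ⊆ Set.range W.ι := by
      rw [Scheme.Opens.range_ι]
      rintro _ ⟨z, rfl⟩
      show ((q ∣_ O) (V.ι z)).1 ∈ Y.basicOpen (c y)
      rw [morphismRestrict_base_coe]
      exact z.2
    let n := IsOpenImmersion.lift W.ι _ hrng
    have hn : n ≫ W.ι = V.ι ≫ q ∣_ O := IsOpenImmersion.lift_fac _ _ _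
    have hnm : n ≫ O.ι ∣_ Y.basicOpen (c y) = m ≫ q ∣_ Y.basicOpen (c y) := by
      rw [← cancel_mono (Y.basicOpen (c y)).ι, Category.assoc, Category.assoc, morphismRestrict_ι, morphismRestrict_ι,
        reassoc_of% hn, morphismRestrict_ι, morphismRestrict_ι_assoc]
    have hmι : m ≫ U.homOfLE (Scheme.Hom.preimage_mono q (hc y)) = V.ι := by
      rw [← cancel_mono (q ⁻¹ᵁ O).ι, Category.assoc, Scheme.homOfLE_ι, morphismRestrict_ι]
    rw [← reassoc_of% hn]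
    erw [cov.ι_glueMorphisms f _ y]
    simp only [f]
    rw [reassoc_of% hnm, hk, reassoc_of% hmι]

end IsInvMap

end Groth.Agent.H13Grpd
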