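import Mathlib.LinearAlgebra.Matrix.SchurComplement
import Mathlib.LinearAlgebra.Matrix.Charpoly.Basic
import Mathlib.RingTheory.TensorProduct.Finite
import Mathlib.RingTheory.Finiteness.Projective
import Mathlib.LinearAlgebra.Determinant
import Mathlib.RingTheory.Flat.Basic

/-!
The determinant of an endomorphism of a finite projective module and the padded
characteristic polynomial, independent of presentations, with base change.
-/

universe u v w

open scoped TensorProduct Polynomial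

namespace Groth.Agent.H13Grpd

variable {R : Type u} [CommRing R] {M : Type v} [AddCommGroup M] [Module R M]

/-- The determinant through a presentation as a direct summand of a free module. -/
noncomputable def presDet {n : ℕ} (ι : M →ₗ[R] Fin n → R) (π : (Fin n → R) →ₗ[R] M) (L : M →ₗ[R] M) : R :=
  LinearMap.det (1 + ι ∘ₗ (L - 1) ∘ₗ π)

theorem det_one_add_comp_comm {m n : ℕ} (a : (Fin m → R) →ₗ[R] Fin n → R) (b : (Fin n → R) →ₗ[R] Fin m → R) :
    LinearMap.det (1 + a ∘ₗ b) = LinearMap.det (1 + b ∘ₗ a) := by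
  classical
  rw [← LinearMap.det_toMatrix', ← LinearMap.det_toMatrix', map_add, map_add, LinearMap.toMatrix'_one,
    LinearMap.toMatrix'_one, LinearMap.toMatrix'_comp, LinearMap.toMatrix'_comp, Matrix.det_one_add_mul_comm]

theorem presDet_eq {m n : ℕ} {ι : M →ₗ[R] Fin n → R} {π : (Fin n → R) →ₗ[R] M} (h : π ∘ₗ ι = LinearMap.id)
    {ι' : M →ₗ[R] Fin m → R} {π' : (Fin m → R) →ₗ[R] M} (h' : π' ∘ₗ ι' = LinearMap.id) (L : M →ₗ[R] M) :
    presDet ι π L = presDet ι' π' L := by
  have e1 : ι ∘ₗ (L - 1) ∘ₗ π = (ι ∘ₗ (L - 1) ∘ₗ π') ∘ₗ (ι' ∘ₗ π) := by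
    refine LinearMap.ext fun x => ?_
    simp only [LinearMap.comp_apply]
    rw [show π' (ι' (π x)) = π x from LinearMap.congr_fun h' (π x)]
  have e2 : ι' ∘ₗ (L - 1) ∘ₗ π' = (ι' ∘ₗ π) ∘ₗ (ι ∘ₗ (L - 1) ∘ₗ π') := by
    refine LinearMap.ext fun x => ?_
    simp only [LinearMap.comp_apply]
    rw [show ∀ y, π (ι y) = y from LinearMap.congr_fun h]
  unfold presDet
  rw [e1, det_one_add_comp_comm, ← e2]

/-- `φ`-semilinear base change data: generators and extension of functionals. -/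
structure IsBC {R' : Type w} [CommRing R'] (φ : R →+* R') {M' : Type*} [AddCommGroup M'] [Module R' M']
    (f : M →ₛₗ[φ] M') : Prop where
  span : Submodule.span R' (Set.range f) = ⊤
  ext : ∀ g : M →ₗ[R] R, ∃ g' : M' →ₗ[R'] R', ∀ m, g' (f m) = φ (g m)

variable [Module.Finite R M] [Module.Projective R M]

variable (R M) in
theorem exists_pres : ∃ (n : ℕ) (ι : M →ₗ[R] Fin n → R) (π : (Fin n → R) →ₗ[R] M), π ∘ₗ ι = LinearMap.id := by
  obtain ⟨n, π, ι, -, -, h⟩ := Module.Finite.exists_comp_eq_id_of_projective R M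
  exact ⟨n, ι, π, h⟩

/-- The determinant of an endomorphism of a finite projective module. -/
noncomputable def nrm (L : M →ₗ[R] M) : R :=
  presDet (exists_pres R M).choose_spec.choose (exists_pres R M).choose_spec.choose_spec.choose L

theorem nrm_eq {n : ℕ} {ι : M →ₗ[R] Fin n → R} {π : (Fin n → R) →ₗ[R] M} (h : π ∘ₗ ι = LinearMap.id)
    (L : M →ₗ[R] M) : nrm L = presDet ι π L :=
  presDet_eq (exists_pres R M).choose_spec.choose_spec.choose_spec h L

theorem nrm_one : nrm (1 : M →ₗ[R] M) = 1 := by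
  obtain ⟨n, ι, π, h⟩ := exists_pres R M
  simp [nrm_eq h, presDet]

theorem nrm_mul (L L' : M →ₗ[R] M) : nrm (L * L') = nrm L * nrm L' := by
  obtain ⟨n, ι, π, h⟩ := exists_pres R M
  simp only [nrm_eq h, presDet, ← map_mul]
  congr 1
  refine LinearMap.ext fun x => ?_
  have hp : ∀ y, π (ι y) = y := LinearMap.congr_fun h
  simp only [LinearMap.add_apply, Module.End.one_apply, Module.End.mul_apply, LinearMap.comp_apply,
    LinearMap.sub_apply, map_add, map_sub, hp]
  abel

theorem nrm_eq_det [Module.Free R M] (L : M →ₗ[R] M) : nrm L = LinearMap.det L := by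
  cases subsingleton_or_nontrivial R
  · exact Subsingleton.elim _ _
  let b := Module.finBasis R M
  have h : b.equivFun.symm.toLinearMap ∘ₗ b.equivFun.toLinearMap = LinearMap.id :=
    LinearMap.ext fun x => b.equivFun.symm_apply_apply x
  rw [nrm_eq h, presDet, ← LinearMap.det_conj L b.equivFun]
  congr 1
  refine LinearMap.ext fun x => ?_
  simp only [LinearMap.add_apply, Module.End.one_apply, LinearMap.comp_apply, LinearEquiv.coe_coe,
    LinearMap.sub_apply, map_sub, LinearEquiv.apply_symm_apply]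
  abel

theorem isUnit_nrm_iff (L : M →ₗ[R] M) : IsUnit (nrm L) ↔ Function.Bijective L := by
  obtain ⟨n, ι, π, h⟩ := exists_pres R M
  have hp : ∀ y, π (ι y) = y := LinearMap.congr_fun h
  constructor
  · intro hu
    rw [nrm_eq h, presDet] at hu
    let N := 1 + ι ∘ₗ (L - 1) ∘ₗ π
    have hb : Function.Bijective N := (Module.End.isUnit_iff N).1 (LinearMap.isUnit_iff_isUnit_det N |>.2 hu)
    have h1 : ∀ y, N (ι y) = ι (L y) := fun y => by simp [N, hp]
    have h2 : ∀ z, π (N z) = L (π z) := fun z => by simp [N, hp]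
    refine ⟨fun a b hab => ?_, fun y => ?_⟩
    · have := hb.1 ((h1 a).trans ((congrArg ι hab).trans (h1 b).symm))
      rw [← hp a, this, hp]
    · obtain ⟨z, hz⟩ := hb.2 (ι y)
      exact ⟨π z, by rw [← h2, hz, hp]⟩
  · intro hb
    refine IsUnit.of_mul_eq_one (nrm (LinearEquiv.ofBijective L hb).symm.toLinearMap) ?_
    rw [← nrm_mul]
    convert nrm_one (R := R) (M := M)
    exact LinearMap.ext fun x => (LinearEquiv.ofBijective L hb).apply_symm_apply x

omit [Module.Finite R M] [Module.Projective R M] in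
theorem det_eq_zero_of_functional {n : ℕ} {N : (Fin n → R) →ₗ[R] Fin n → R} (φ : (Fin n → R) →ₗ[R] R)
    (hN : ∀ x, φ (N x) = 0) {x₀ : Fin n → R} (h₀ : φ x₀ = 1) : LinearMap.det N = 0 := by
  classical
  rw [← LinearMap.det_toMatrix']
  set A := LinearMap.toMatrix' N
  let r : Matrix (Fin 1) (Fin n) R := fun _ j => φ (Pi.single j 1)
  have hr : r * A = 0 := by
    ext i j
    have := hN (Pi.single j 1)
    rw [pi_eq_sum_univ' (N (Pi.single j 1)), map_sum] at this
    simp only [map_smul, smul_eq_mul] at this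
    rw [Matrix.mul_apply, Matrix.zero_apply, ← this]
    exact Finset.sum_congr rfl fun k _ => by
      rw [mul_comm]
      rfl
  have h2 : A.det • r = 0 := by
    have := congrArg (· * A.adjugate) hr
    simpa [Matrix.mul_assoc, Matrix.mul_adjugate] using this
  have h3 : ∀ j, A.det * φ (Pi.single j 1) = 0 := fun j => congrFun (congrFun h2 0) j
  calc A.det = A.det * φ x₀ := by rw [h₀, mul_one]
    _ = 0 := by
      rw [pi_eq_sum_univ' x₀, map_sum, Finset.mul_sum]
      exact Finset.sum_eq_zero fun k _ => by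
        rw [map_smul, smul_eq_mul, mul_left_comm, h3, mul_zero]

theorem nrm_eq_zero_of_functional (L : M →ₗ[R] M) (φ : M →ₗ[R] R) (hL : ∀ m, φ (L m) = 0) {m₀ : M}
    (h₀ : φ m₀ = 1) : nrm L = 0 := by
  obtain ⟨n, ι, π, h⟩ := exists_pres R M
  have hp : ∀ y, π (ι y) = y := LinearMap.congr_fun h
  rw [nrm_eq h, presDet]
  exact det_eq_zero_of_functional (φ ∘ₗ π) (fun x => by simp [hp, hL]) (x₀ := ι m₀) (by simp [hp, h₀])

section BaseChange

variable {R' : Type w} [CommRing R'] {φ : R →+* R'} {M' : Type*} [AddCommGroup M'] [Module R' M']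
  {f : M →ₛₗ[φ] M'}

theorem IsBC.exists_pres' (hf : IsBC φ f) {n : ℕ} {ι : M →ₗ[R] Fin n → R} {π : (Fin n → R) →ₗ[R] M}
    (h : π ∘ₗ ι = LinearMap.id) :
    ∃ (ι' : M' →ₗ[R'] Fin n → R') (π' : (Fin n → R') →ₗ[R'] M'), π' ∘ₗ ι' = LinearMap.id ∧
      (∀ m i, ι' (f m) i = φ (ι m i)) ∧ (∀ i, π' (Pi.single i 1) = f (π (Pi.single i 1))) := by
  classical
  choose g hg using fun i => hf.ext ((LinearMap.proj i).comp ι)
  let π' : (Fin n → R') →ₗ[R'] M' := Fintype.linearCombination R' fun i => f (π (Pi.single i 1))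
  refine ⟨LinearMap.pi g, π', ?_, fun m i => hg i m, fun i => ?_⟩
  · refine LinearMap.ext_on hf.span ?_
    rintro _ ⟨m, rfl⟩
    conv_rhs => rw [LinearMap.id_apply, ← show π (ι m) = m from LinearMap.congr_fun h m]
    simp only [LinearMap.comp_apply, π', Fintype.linearCombination_apply, LinearMap.pi_apply, hg]
    conv_rhs => rw [pi_eq_sum_univ' (ι m), map_sum, map_sum]
    refine Finset.sum_congr rfl fun i _ => ?_
    rw [map_smul, LinearMap.map_smulₛₗ]
    simp
  · simp [π', Fintype.linearCombination_apply_single]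

theorem IsBC.finite (hf : IsBC φ f) : Module.Finite R' M' := by
  obtain ⟨n, ι, π, h⟩ := exists_pres R M
  obtain ⟨ι', π', h', -⟩ := hf.exists_pres' h
  exact Module.Finite.of_surjective π' fun x => ⟨ι' x, LinearMap.congr_fun h' x⟩

theorem IsBC.projective (hf : IsBC φ f) : Module.Projective R' M' := by
  obtain ⟨n, ι, π, h⟩ := exists_pres R M
  obtain ⟨ι', π', h', -⟩ := hf.exists_pres' h
  exact Module.Projective.of_split ι' π' h'

theorem nrm_baseChange [Module.Finite R' M'] [Module.Projective R' M'] (hf : IsBC φ f) (L : M →ₗ[R] M)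
    (L' : M' →ₗ[R'] M') (hL : ∀ m, L' (f m) = f (L m)) : nrm L' = φ (nrm L) := by
  classical
  obtain ⟨n, ι, π, h⟩ := exists_pres R M
  obtain ⟨ι', π', h', hι, hπ⟩ := hf.exists_pres' h
  rw [nrm_eq h, nrm_eq h', presDet, presDet, ← LinearMap.det_toMatrix', ← LinearMap.det_toMatrix', φ.map_det,
    RingHom.mapMatrix_apply]
  congr 1
  ext i j
  rw [Matrix.map_apply, LinearMap.toMatrix'_apply, LinearMap.toMatrix'_apply]
  simp only [LinearMap.add_apply, Module.End.one_apply, LinearMap.comp_apply, LinearMap.sub_apply,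
    Pi.add_apply, map_add]
  rw [hπ, hL, ← map_sub, hι]
  congr 1
  simp [Pi.single_apply, apply_ite φ]

theorem charpoly_presMat_baseChange (hf : IsBC φ f) {n : ℕ} {ι : M →ₗ[R] Fin n → R}
    {π : (Fin n → R) →ₗ[R] M} (h : π ∘ₗ ι = LinearMap.id) (L : M →ₗ[R] M)
    (L' : M' →ₗ[R'] M') (hL : ∀ m, L' (f m) = f (L m)) :
    ∃ (ι' : M' →ₗ[R'] Fin n → R') (π' : (Fin n → R') →ₗ[R'] M'), π' ∘ₗ ι' = LinearMap.id ∧
      (LinearMap.toMatrix' (ι ∘ₗ L ∘ₗ π)).charpoly.map φ = (LinearMap.toMatrix' (ι' ∘ₗ L' ∘ₗ π')).charpoly := by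
  classical
  obtain ⟨ι', π', h', hι, hπ⟩ := hf.exists_pres' h
  refine ⟨ι', π', h', ?_⟩
  rw [← Matrix.charpoly_map]
  congr 1
  ext i j
  rw [Matrix.map_apply, LinearMap.toMatrix'_apply, LinearMap.toMatrix'_apply]
  simp only [LinearMap.comp_apply]
  rw [hπ, hL, hι]

end BaseChange

omit [Module.Finite R M] [Module.Projective R M] in
theorem isBC_tensor (A : Type w) [CommRing A] [Algebra R A] :
    IsBC (algebraMap R A) (M := M) (M' := A ⊗[R] M)
      { toFun := fun m => (1 : A) ⊗ₜ[R] m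
        map_add' := TensorProduct.tmul_add _
        map_smul' := fun r m => by rw [algebraMap_smul, TensorProduct.tmul_smul] } := by
  refine ⟨?_, fun g => ⟨(TensorProduct.AlgebraTensorModule.rid R A A).toLinearMap ∘ₗ g.baseChange A,
    fun m => ?_⟩⟩
  · rw [eq_top_iff]
    rintro x -
    induction x using TensorProduct.induction_on with
    | zero => exact zero_mem _
    | tmul a m =>
      have : a ⊗ₜ[R] m = a • ((1 : A) ⊗ₜ[R] m) := by rw [TensorProduct.smul_tmul', smul_eq_mul, mul_one]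
      rw [this]
      exact Submodule.smul_mem _ _ (Submodule.subset_span ⟨m, rfl⟩)
    | add x y hx hy => exact add_mem hx hy
  · simp [Algebra.smul_def]

theorem charpoly_presMat_eq {n : ℕ} {ι ι' : M →ₗ[R] Fin n → R} {π π' : (Fin n → R) →ₗ[R] M}
    (h : π ∘ₗ ι = LinearMap.id) (h' : π' ∘ₗ ι' = LinearMap.id) (L : M →ₗ[R] M) :
    (LinearMap.toMatrix' (ι ∘ₗ L ∘ₗ π)).charpoly = (LinearMap.toMatrix' (ι' ∘ₗ L ∘ₗ π')).charpoly := by
  classical
  have e1 : ι ∘ₗ L ∘ₗ π = (ι ∘ₗ L ∘ₗ π') ∘ₗ (ι' ∘ₗ π) := by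
    refine LinearMap.ext fun x => ?_
    simp only [LinearMap.comp_apply]
    rw [show π' (ι' (π x)) = π x from LinearMap.congr_fun h' (π x)]
  have e2 : ι' ∘ₗ L ∘ₗ π' = (ι' ∘ₗ π) ∘ₗ (ι ∘ₗ L ∘ₗ π') := by
    refine LinearMap.ext fun x => ?_
    simp only [LinearMap.comp_apply]
    rw [show ∀ y, π (ι y) = y from LinearMap.congr_fun h]
  rw [e1, e2, LinearMap.toMatrix'_comp, LinearMap.toMatrix'_comp, Matrix.charpoly_mul_comm]

/-- A functional with eigenvalue `b` gives a root of the padded characteristic polynomial. -/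
theorem eval_charpoly_presMat {n : ℕ} {ι : M →ₗ[R] Fin n → R} {π : (Fin n → R) →ₗ[R] M}
    (h : π ∘ₗ ι = LinearMap.id) (L : M →ₗ[R] M) (b : R) (φ : M →ₗ[R] R) (hL : ∀ m, φ (L m) = b * φ m)
    {m₀ : M} (h₀ : φ m₀ = 1) : (LinearMap.toMatrix' (ι ∘ₗ L ∘ₗ π)).charpoly.eval b = 0 := by
  classical
  have hp : ∀ y, π (ι y) = y := LinearMap.congr_fun h
  rw [Matrix.eval_charpoly]
  have e : Matrix.scalar (Fin n) b - LinearMap.toMatrix' (ι ∘ₗ L ∘ₗ π) =
      LinearMap.toMatrix' (b • (1 : (Fin n → R) →ₗ[R] Fin n → R) - ι ∘ₗ L ∘ₗ π) := by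
    rw [map_sub, map_smul, LinearMap.toMatrix'_one, Matrix.scalar_apply, Matrix.smul_one_eq_diagonal]
  rw [e, LinearMap.det_toMatrix']
  refine det_eq_zero_of_functional (φ ∘ₗ π) (fun x => ?_) (x₀ := ι m₀) (by simp [hp, h₀])
  simp [hp, hL]

end Groth.Agent.H13Grpd
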