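import Groth.Agent.H13Grpd.CoeqAffine

/-!
Restriction of a groupoid scheme to an invariant open, and descent along the whole of an invariant map.
-/

universe u

open CategoryTheory CategoryTheory.Limits AlgebraicGeometry Topology

namespace Groth.Agent.H13Grpd

namespace IsInvMap

variable {R U Y : Scheme.{u}} {s t : R ⟶ U} {q : U ⟶ Y} (h : IsInvMap s t q)
  [IsAffine U] [IsAffine R] [IsAffine Y]
include h

theorem hom_ext_top {Z : Scheme.{u}} {h₁ h₂ : Y ⟶ Z} (e : q ≫ h₁ = q ≫ h₂) : h₁ = h₂ := by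
  have : IsIso (⊤ : Y.Opens).ι := Y.topIso.isIso_hom
  rw [← cancel_epi (⊤ : Y.Opens).ι]
  exact h.hom_ext _ _ (by rw [morphismRestrict_ι_assoc, morphismRestrict_ι_assoc, e])

theorem exists_desc_top {Z : Scheme.{u}} (g : U ⟶ Z) (hg : t ≫ g = s ≫ g) : ∃ k : Y ⟶ Z, q ≫ k = g := by
  have : IsIso (⊤ : Y.Opens).ι := Y.topIso.isIso_hom
  have : IsIso (q ⁻¹ᵁ (⊤ : Y.Opens)).ι := U.topIso.isIso_hom
  obtain ⟨k, hk, -⟩ := h.existsUnique_desc ((q ⁻¹ᵁ (⊤ : Y.Opens)).ι ≫ g) (by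
    rw [Scheme.Hom.resLE_comp_ι_assoc, morphismRestrict_ι_assoc, hg])
  refine ⟨inv (⊤ : Y.Opens).ι ≫ k, ?_⟩
  rw [← cancel_epi (q ⁻¹ᵁ (⊤ : Y.Opens)).ι, ← morphismRestrict_ι_assoc, IsIso.hom_inv_id_assoc, hk]

end IsInvMap

variable {S : Scheme.{u}} (G : Grpd.GroupoidScheme S)

theorem comp_w {T Z : Scheme.{u}} (g : G.U ⟶ Z) (hg : G.t ≫ g = G.s ≫ g) {a b : T ⟶ G.U} (r : T ⟶ G.R)
    (ha : r ≫ G.t = a) (hb : r ≫ G.s = b) : a ≫ g = b ≫ g := by
  rw [← ha, ← hb, Category.assoc, Category.assoc, hg]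

variable {G} {W : G.U.Opens} (hW : G.s ⁻¹ᵁ W = G.t ⁻¹ᵁ W)

/-- The target of the restricted groupoid. -/
noncomputable def restrT : (G.s ⁻¹ᵁ W).toScheme ⟶ W.toScheme := G.t.resLE W (G.s ⁻¹ᵁ W) hW.le

@[reassoc (attr := simp)]
theorem restrT_ι : restrT hW ≫ W.ι = (G.s ⁻¹ᵁ W).ι ≫ G.t := Scheme.Hom.resLE_comp_ι _ _

/-- Composable pairs of the restricted groupoid are composable pairs. -/
noncomputable def restrPair : pullback (G.s ∣_ W) (restrT hW) ⟶ pullback G.s G.t :=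
  pullback.lift (pullback.fst _ _ ≫ (G.s ⁻¹ᵁ W).ι) (pullback.snd _ _ ≫ (G.s ⁻¹ᵁ W).ι) (by
    rw [Category.assoc, Category.assoc, ← morphismRestrict_ι, pullback.condition_assoc, restrT_ι])

theorem range_restrPair_c : Set.range (restrPair hW ≫ G.c) ⊆ Set.range (G.s ⁻¹ᵁ W).ι := by
  rw [Scheme.Opens.range_ι]
  rintro _ ⟨z, rfl⟩
  show G.s ((restrPair hW ≫ G.c) z) ∈ W
  rw [← Scheme.Hom.comp_apply, Category.assoc, c_s, restrPair, pullback.lift_snd_assoc, Category.assoc,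
    Scheme.Hom.comp_apply]
  exact (pullback.snd (G.s ∣_ W) (restrT hW) z).2

/-- The composition of the restricted groupoid. -/
noncomputable def restrC : pullback (G.s ∣_ W) (restrT hW) ⟶ (G.s ⁻¹ᵁ W).toScheme :=
  IsOpenImmersion.lift (G.s ⁻¹ᵁ W).ι (restrPair hW ≫ G.c) (range_restrPair_c hW)

theorem lift_restrC {T : Scheme.{u}} (α β : T ⟶ (G.s ⁻¹ᵁ W).toScheme) (h : α ≫ G.s ∣_ W = β ≫ restrT hW) :
    (pullback.lift α β h ≫ restrC hW) ≫ (G.s ⁻¹ᵁ W).ι =
      pullback.lift (α ≫ (G.s ⁻¹ᵁ W).ι) (β ≫ (G.s ⁻¹ᵁ W).ι) (by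
        rw [Category.assoc, Category.assoc, ← morphismRestrict_ι, reassoc_of% h, restrT_ι]) ≫
        G.c := by
  rw [Category.assoc, restrC, IsOpenImmersion.lift_fac, ← Category.assoc]
  congr 1
  apply pullback.hom_ext
  · rw [Category.assoc, restrPair, pullback.lift_fst, pullback.lift_fst, pullback.lift_fst_assoc]
  · rw [Category.assoc, restrPair, pullback.lift_snd, pullback.lift_snd, pullback.lift_snd_assoc]

/-- The restriction of a groupoid scheme to an invariant open. -/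
noncomputable def restr : Grpd.GroupoidScheme S where
  U := W.toScheme
  R := (G.s ⁻¹ᵁ W).toScheme
  pU := W.ι ≫ G.pU
  pR := (G.s ⁻¹ᵁ W).ι ≫ G.pR
  s := G.s ∣_ W
  t := restrT hW
  e := G.e.resLE (G.s ⁻¹ᵁ W) W (by rw [← Scheme.Hom.comp_preimage, G.e_s]; exact le_rfl)
  i := G.i.resLE (G.s ⁻¹ᵁ W) (G.s ⁻¹ᵁ W) (by rw [← Scheme.Hom.comp_preimage, G.i_s, hW])
  c := restrC hW
  s_over := by rw [morphismRestrict_ι_assoc, G.s_over]
  t_over := by rw [restrT_ι_assoc, G.t_over]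
  comp_s α β h := by
    rw [← cancel_mono W.ι, Category.assoc, morphismRestrict_ι, ← Category.assoc, lift_restrC hW α β h, G.comp_s,
      Category.assoc, Category.assoc, morphismRestrict_ι]
  comp_t α β h := by
    rw [← cancel_mono W.ι, Category.assoc, restrT_ι, ← Category.assoc, lift_restrC hW α β h,
      G.comp_t, Category.assoc, Category.assoc, restrT_ι]
  assoc α β γ h₁ h₂ := by
    rw [← cancel_mono (G.s ⁻¹ᵁ W).ι]
    refine (lift_restrC hW _ γ _).trans ?_
    refine Eq.trans ?_ (lift_restrC hW α _ _).symm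
    refine (comp_congr G _ ?_ (lift_restrC hW α β h₁) rfl).trans
      ((G.assoc _ _ _ ?_ ?_).trans (comp_congr G _ _ rfl (lift_restrC hW β γ h₂).symm))
    · rw [G.comp_s, Category.assoc, Category.assoc, ← morphismRestrict_ι, reassoc_of% h₂, restrT_ι]
    · rw [Category.assoc, Category.assoc, ← morphismRestrict_ι, reassoc_of% h₁, restrT_ι]
    · rw [Category.assoc, Category.assoc, ← morphismRestrict_ι, reassoc_of% h₂, restrT_ι]
  e_s := by rw [← cancel_mono W.ι, Category.assoc, morphismRestrict_ι, Scheme.Hom.resLE_comp_ι_assoc, G.e_s,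
    Category.id_comp, Category.comp_id]
  e_t := by rw [← cancel_mono W.ι, Category.assoc, restrT_ι, Scheme.Hom.resLE_comp_ι_assoc, G.e_t,
    Category.id_comp, Category.comp_id]
  comp_e α := by
    rw [← cancel_mono (G.s ⁻¹ᵁ W).ι, lift_restrC hW]
    exact (comp_congr G _ _ rfl (by simp)).trans (G.comp_e _)
  e_comp α := by
    rw [← cancel_mono (G.s ⁻¹ᵁ W).ι, lift_restrC hW]
    exact (comp_congr G _ _ (by simp) rfl).trans (G.e_comp _)
  i_s := by rw [← cancel_mono W.ι, Category.assoc, morphismRestrict_ι, Scheme.Hom.resLE_comp_ι_assoc, G.i_s,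
    restrT_ι]
  i_t := by rw [← cancel_mono W.ι, Category.assoc, restrT_ι, Scheme.Hom.resLE_comp_ι_assoc, G.i_t,
    morphismRestrict_ι]
  comp_i α := by
    rw [← cancel_mono (G.s ⁻¹ᵁ W).ι, lift_restrC hW]
    exact ((comp_congr G _ _ rfl (by simp)).trans (G.comp_i _)).trans (by simp)
  i_comp α := by
    rw [← cancel_mono (G.s ⁻¹ᵁ W).ι, lift_restrC hW]
    exact ((comp_congr G _ _ (by simp) rfl).trans (G.i_comp _)).trans (by simp)

instance [IsFinite G.s] : IsFinite (restr hW).s := inferInstanceAs (IsFinite (G.s ∣_ W))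
instance [Flat G.s] : Flat (restr hW).s := inferInstanceAs (Flat (G.s ∣_ W))
instance [LocallyOfFinitePresentation G.s] : LocallyOfFinitePresentation (restr hW).s :=
  inferInstanceAs (LocallyOfFinitePresentation (G.s ∣_ W))

instance mono_restr_j [Mono G.j] : Mono (restr hW).j := ⟨fun {T} (g g' : T ⟶ (G.s ⁻¹ᵁ W).toScheme) e => by
  have ht : (restr hW).j ≫ pullback.fst _ _ = restrT hW := pullback.lift_fst _ _ _
  have hs : (restr hW).j ≫ pullback.snd _ _ = G.s ∣_ W := pullback.lift_snd _ _ _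
  have et : g ≫ restrT hW = g' ≫ restrT hW := by
    rw [← ht]; exact (Category.assoc _ _ _).symm.trans ((congrArg (· ≫ _) e).trans (Category.assoc _ _ _))
  have es : g ≫ G.s ∣_ W = g' ≫ G.s ∣_ W := by
    rw [← hs]; exact (Category.assoc _ _ _).symm.trans ((congrArg (· ≫ _) e).trans (Category.assoc _ _ _))
  have et' := congr($et ≫ W.ι)
  have es' := congr($es ≫ W.ι)
  rw [Category.assoc, Category.assoc, restrT_ι] at et'
  rw [Category.assoc, Category.assoc, morphismRestrict_ι] at es'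
  refine (cancel_mono (G.s ⁻¹ᵁ W).ι).1 ((cancel_mono G.j).1 ?_)
  apply pullback.hom_ext <;> simp only [Grpd.GroupoidScheme.j, Category.assoc, pullback.lift_fst, pullback.lift_snd]
  · exact et'
  · exact es'⟩

end Groth.Agent.H13Grpd
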